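import Cfsg.Agent.SmallSimple.SixThousand.Auto
import Cfsg.Agent.SmallSimple.FiftyForty.Local
import Cfsg.Agent.SmallSimple.ColumnData
import Cfsg.Agent.ZStar.Final

/-!
# Tools for the orders between 3641 and 6232
-/

set_option autoImplicit false
set_option linter.style.haveILetI false
set_option linter.unusedSectionVars false

namespace CfsgLib.SixThousand

open Subgroup MulAction CfsgLib.SylowCheck

universe u

variable {G : Type u} [Group G] [Finite G] [IsSimpleGroup G]

/-- The index of a proper subgroup is large. -/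
theorem not_index_dvd {H : Subgroup G} (hH : H ≠ ⊤) {n : ℕ} (hn : Nat.card G = n) {i : ℕ}
    (hi : H.index = i) (hd : i.factorial % n ≠ 0) : False :=
  hd (Nat.mod_eq_zero_of_dvd (hn ▸ hi ▸ CfsgLib.SmallSimple.card_dvd_factorial H hH))

/-- A generator of a Sylow subgroup of prime order, its centraliser and its normaliser. -/
theorem exists_generator {p k c : ℕ} (h : Real G (p, k, c)) {n m : ℕ} (hn : Nat.card G = n) (hm : k * m = n) :
    ∃ g : G, p.Prime ∧ ¬ p ^ 2 ∣ Nat.card G ∧ orderOf g = p ∧
      Nat.card (centralizer ({g} : Set G)) = p * c ∧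
      Nat.card (normalizer ((zpowers g : Subgroup G) : Set G)) = m ∧
      Nat.card (G ⧸ normalizer ((zpowers g : Subgroup G) : Set G)) = k := by
  obtain ⟨hp, hsq, hk, hQ⟩ := h
  replace hp : p.Prime := hp
  replace hk : Nat.card (Sylow p G) = k := hk
  replace hsq : ¬ p ^ 2 ∣ Nat.card G := hsq
  replace hQ : ∀ Q : Sylow p G, Nat.card (Q : Subgroup G) = p ∧
      Nat.card (centralizer ((Q : Subgroup G) : Set G)) = p * c := hQ
  haveI : Fact p.Prime := ⟨hp⟩
  obtain ⟨P⟩ : Nonempty (Sylow p G) := inferInstance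
  obtain ⟨hP, hC⟩ := hQ P
  obtain ⟨x, hx⟩ := exists_prime_orderOf_dvd_card' (G := (P : Subgroup G)) p (by rw [hP])
  have hxo : orderOf (x : G) = p := (Subgroup.orderOf_coe x).trans hx
  have hPz : (P : Subgroup G) = zpowers (x : G) :=
    (eq_of_le_of_card_ge (zpowers_le.2 x.2) (by rw [hP, Nat.card_zpowers, hxo])).symm
  refine ⟨x, hp, hsq, hxo, ?_, ?_, ?_⟩
  · rw [← hC, show (((P : Subgroup G) : Set G)) = ((zpowers (x : G) : Subgroup G) : Set G) from congrArg _ hPz,
      Subgroup.zpowers_eq_closure, Subgroup.centralizer_closure]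
  · have h := CfsgLib.SmallSimple.card_sylow_mul P
    rw [hk, hn, ← hm, hPz] at h
    exact Nat.eq_of_mul_eq_mul_left (hk ▸ Nat.card_pos) h
  · rw [← hPz, ← index_eq_card, ← hk]
    exact (Sylow.card_eq_index_normalizer P).symm

/-- The normaliser of a cyclic group contains the centraliser of its generator. -/
theorem centralizer_le (g : G) :
    centralizer ({g} : Set G) ≤ normalizer ((zpowers g : Subgroup G) : Set G) := by
  rw [← Subgroup.centralizer_closure, ← Subgroup.zpowers_eq_closure]
  exact centralizer_le_normalizer _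

/-- Every root of unity of the order of the quotient is realised by the normaliser. -/
theorem exists_conj_pow {p c e : ℕ} [hp : Fact p.Prime] {g : G} (hg : orderOf g = p)
    (hC : Nat.card (centralizer ({g} : Set G)) = p * c)
    (hN : Nat.card (normalizer ((zpowers g : Subgroup G) : Set G)) = p * c * e)
    (hroots : (Finset.univ.filter fun r : ZMod p => r ^ e = 1).card = e) {r : ZMod p} (hr : r ^ e = 1) :
    ∃ h : G, h * g * h⁻¹ = g ^ r.val := by
  classical
  set N := normalizer ((zpowers g : Subgroup G) : Set G)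
  set C := (centralizer ({g} : Set G)).subgroupOf N
  haveI hCn : C.Normal := ⟨fun y hy a => by
    obtain ⟨j, hj⟩ := (mem_normalizer_iff''.1 a.2 g).1 (mem_zpowers g)
    have hy' : Commute (y : G) g := mem_centralizer_singleton_iff.1 (mem_subgroupOf.1 hy)
    show ((a * y * a⁻¹ : N) : G) ∈ centralizer ({g} : Set G)
    rw [mem_centralizer_singleton_iff, Subgroup.coe_mul, Subgroup.coe_mul, Subgroup.coe_inv]
    have hj' : g ^ j = (a : G)⁻¹ * g * (a : G) := hj
    calc (a : G) * y * (a : G)⁻¹ * g = (a : G) * (y * ((a : G)⁻¹ * g * a)) * (a : G)⁻¹ := by group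
      _ = (a : G) * (((a : G)⁻¹ * g * a) * y) * (a : G)⁻¹ := by rw [← hj', (hy'.zpow_right j).eq]
      _ = g * ((a : G) * y * (a : G)⁻¹) := by group⟩
  have hC' : Nat.card C = p * c := by
    rw [Nat.card_congr (subgroupOfEquivOfLe (centralizer_le g)).toEquiv, hC]
  have hidx : Nat.card (N ⧸ C) = e := by
    have h := C.card_eq_card_quotient_mul_card_subgroup
    rw [hN, hC', mul_comm (p * c)] at h
    exact (Nat.eq_of_mul_eq_mul_right (by rw [← hC]; exact Nat.card_pos) h).symm
  have hex : ∀ a : N, ∃ s : ZMod p, (a : G) * g * (a : G)⁻¹ = g ^ s.val := fun a => by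
    have hm : (a : G) * g * (a : G)⁻¹ ∈ zpowers g := (mem_normalizer_iff.1 a.2 g).1 (mem_zpowers g)
    obtain ⟨i, hi⟩ := (mem_zpowers_iff_mem_range_orderOf).mp hm |> Finset.mem_image.mp
    refine ⟨(i : ZMod p), ?_⟩
    have h5 := pow_mod_orderOf g i
    rw [hg] at h5
    rw [ZMod.val_natCast, h5, hi.2]
  choose s hs using hex
  have hpow : ∀ (a : N) (m : ℕ), ((a : G) ^ m) * g * ((a : G) ^ m)⁻¹ = g ^ ((s a) ^ m).val := by
    intro a m
    induction m with
    | zero => simp [ZMod.val_one]
    | succ m ih =>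
      rw [pow_succ', pow_succ (s a), mul_inv_rev]
      calc (a : G) * (a : G) ^ m * g * (((a : G) ^ m)⁻¹ * (a : G)⁻¹)
          = (a : G) * ((a : G) ^ m * g * ((a : G) ^ m)⁻¹) * (a : G)⁻¹ := by group
        _ = ((a : G) * g * (a : G)⁻¹) ^ ((s a) ^ m).val := by rw [ih, conj_pow]
        _ = _ := by rw [hs, mul_comm ((s a) ^ m), CfsgLib.ColumnData.pow_val_mul hg]
  have hinj : ∀ {u v : ZMod p}, g ^ u.val = g ^ v.val → u = v := fun {u v} h => by
    rw [pow_inj_mod, hg, Nat.mod_eq_of_lt (ZMod.val_lt u), Nat.mod_eq_of_lt (ZMod.val_lt v)] at h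
    exact ZMod.val_injective p h
  have hroot : ∀ a : N, (s a) ^ e = 1 := fun a => by
    have hmem : a ^ e ∈ C := by
      rw [← QuotientGroup.eq_one_iff, QuotientGroup.mk_pow, ← hidx]
      exact pow_card_eq_one' (G := N ⧸ C)
    refine hinj ?_
    rw [← hpow, ZMod.val_one, pow_one, mul_inv_eq_iff_eq_mul]
    exact mem_centralizer_singleton_iff.1 (mem_subgroupOf.1 hmem)
  let f : N ⧸ C → (Finset.univ.filter fun r : ZMod p => r ^ e = 1) :=
    fun q => ⟨s q.out, by simp [hroot]⟩
  have hf : Function.Injective f := fun q q' h => by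
    have h' : s q.out = s q'.out := congrArg Subtype.val h
    rw [← QuotientGroup.out_eq' q, ← QuotientGroup.out_eq' q', QuotientGroup.eq, mem_subgroupOf,
      mem_centralizer_singleton_iff]
    have h1 := hs q.out
    rw [h', ← hs q'.out] at h1
    push_cast
    calc ((q.out : G))⁻¹ * q'.out * g = (q.out : G)⁻¹ * ((q'.out : G) * g * (q'.out : G)⁻¹) * q'.out := by group
      _ = g * ((q.out : G)⁻¹ * q'.out) := by rw [← h1]; group
  obtain ⟨q, hq⟩ := ((Nat.bijective_iff_injective_and_card f).2 ⟨hf, by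
    rw [hidx, Nat.card_eq_finsetCard, hroots]⟩).2 ⟨r, by simp [hr]⟩
  exact ⟨q.out, by rw [hs]; exact congrArg (g ^ ·) (congrArg ZMod.val (congrArg Subtype.val hq))⟩

/-- The fixed points of a commuting element. -/
theorem card_fixed_commute {v g : G} (hv : Commute v g) {p : ℕ} [hp : Fact p.Prime] (hg : g ^ p = 1)
    (Ω : Type*) [Finite Ω] [MulAction G Ω] :
    Nat.card {c : Ω // v • c = c} % p = Nat.card {c : Ω // v • c = c ∧ g • c = c} % p := by
  classical
  haveI := Fintype.ofFinite Ω
  have hstab : ∀ c : Ω, v • c = c ↔ v • MulAction.toPerm g c = MulAction.toPerm g c := by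
    intro c
    simp only [MulAction.toPerm_apply]
    rw [← mul_smul, hv.eq, mul_smul]
    exact ⟨fun h => by rw [h], fun h => smul_left_cancel g h⟩
  let σ : Equiv.Perm {c : Ω // v • c = c} :=
    (MulAction.toPerm g : Equiv.Perm Ω).subtypePerm fun c => (hstab c).symm
  have hpow : ∀ (n : ℕ) (c : {c : Ω // v • c = c}), ((σ ^ n) c : Ω) = g ^ n • (c : Ω) := by
    intro n
    induction n with
    | zero => intro c; simp
    | succ n ih =>
      intro c
      rw [pow_succ', pow_succ', Equiv.Perm.mul_apply, mul_smul, ← ih c]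
      rfl
  have hσ : σ ^ p ^ 1 = 1 := by
    ext c
    rw [hpow, pow_one, hg, one_smul]
    rfl
  have h := Equiv.Perm.card_compl_support_modEq hσ
  rw [← Nat.card_eq_fintype_card] at h
  rw [← h]
  congr 1
  rw [← Nat.card_eq_finsetCard]
  refine Nat.card_congr (((Equiv.subtypeEquivRight fun c => ?_).trans
    (Equiv.subtypeSubtypeEquivSubtypeInter (fun c : Ω => v • c = c) fun c => g • c = c)))
  simp only [Finset.mem_compl, Equiv.Perm.mem_support, not_not]
  rw [Subtype.ext_iff]
  rfl

/-- The centraliser of an element fixing one coset only lies in the subgroup. -/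
theorem centralizer_le_of_fixed_one {t : G} {H : Subgroup G} (ht : t ∈ H)
    (h1 : Nat.card {c : G ⧸ H // t • c = c} = 1) : centralizer ({t} : Set G) ≤ H := by
  intro a ha
  have hb : t • ((1 : G) : G ⧸ H) = ((1 : G) : G ⧸ H) := by
    rw [Quotient.smul_coe, QuotientGroup.eq, smul_eq_mul, mul_one, mul_one, H.inv_mem_iff]
    exact ht
  have hc : t • ((a : G) : G ⧸ H) = ((a : G) : G ⧸ H) := by
    rw [Quotient.smul_coe, QuotientGroup.eq, smul_eq_mul, mul_inv_rev]
    have h := mem_centralizer_singleton_iff.1 ha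
    have h' : a⁻¹ * t⁻¹ * a = t⁻¹ := by
      rw [show a⁻¹ * t⁻¹ * a = (a⁻¹ * t * a)⁻¹ by group, show a⁻¹ * t * a = t by
        rw [mul_assoc, ← h, inv_mul_cancel_left]]
    rw [h']
    exact H.inv_mem ht
  haveI : Subsingleton {c : G ⧸ H // t • c = c} := (Nat.card_eq_one_iff_unique.1 h1).1
  have := congrArg Subtype.val (Subsingleton.elim (⟨_, hb⟩ : {c : G ⧸ H // t • c = c}) ⟨_, hc⟩)
  simpa [QuotientGroup.eq] using this

/-- A simple group has no involution alone in its class within a Sylow subgroup. -/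
theorem false_of_isolated (hG : ¬ IsMulCommutative G) (P : Sylow 2 G) {t : G} (ht : orderOf t = 2)
    (h : ∀ g : G, g * t * g⁻¹ ∈ P → g * t * g⁻¹ = t) : False := by
  obtain ⟨N, hN, hodd, hcomm⟩ := CfsgLib.ZStar.zstar_of_sylow P ht h
  rcases IsSimpleGroup.eq_bot_or_eq_top_of_normal N hN with rfl | rfl
  · have hc : t ∈ Subgroup.center G := Subgroup.mem_center_iff.2 fun g => by
      have := hcomm g
      rw [Subgroup.mem_bot, mul_inv_eq_one, mul_inv_eq_iff_eq_mul] at this
      exact this.symm
    rcases IsSimpleGroup.eq_bot_or_eq_top_of_normal (Subgroup.center G) inferInstance with hz | hz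
    · rw [hz, Subgroup.mem_bot] at hc
      rw [hc, orderOf_one] at ht
      omega
    · exact hG ⟨⟨fun a b => (Subgroup.mem_center_iff.1 (hz ▸ Subgroup.mem_top b)) a⟩⟩
  · rw [Subgroup.card_top] at hodd
    exact (Nat.not_even_iff_odd.2 hodd) (even_iff_two_dvd.2 (ht ▸ orderOf_dvd_natCard t))

/-- An element of an abelian subgroup alone in its classes has order dividing the index. -/
theorem pow_index_eq_one (hG : ¬ IsMulCommutative G) (H : Subgroup G)
    (hc : ∀ a ∈ H, ∀ b ∈ H, a * b = b * a) (x : G)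
    (key : ∀ (k : ℕ) (g₀ : G), g₀⁻¹ * x ^ k * g₀ ∈ H → g₀⁻¹ * x ^ k * g₀ = x ^ k) :
    x ^ H.index = 1 := by
  letI : CommGroup H :=
    { (inferInstance : Group H) with mul_comm := fun a b => Subtype.ext (hc a a.2 b b.2) }
  have h1 := MonoidHom.transfer_eq_pow (MonoidHom.id H) x key
  rw [CfsgLib.SmallSimple.hom_comm_eq_one hG (MonoidHom.transfer (MonoidHom.id H)), MonoidHom.one_apply] at h1
  exact (congrArg Subtype.val h1).symm

/-- A group of twice odd order has a subgroup of index two. -/
theorem exists_index_two {X : Type*} [Group X] [Finite X] {m : ℕ} (hX : Nat.card X = 2 * m) (hm : m % 2 = 1) :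
    ∃ Y : Subgroup X, Y.Normal ∧ Y.index = 2 := by
  classical
  haveI := Fintype.ofFinite X
  haveI : Fact (Nat.Prime 2) := ⟨Nat.prime_two⟩
  obtain ⟨t, ht⟩ := exists_prime_orderOf_dvd_card' (G := X) 2 ⟨m, hX⟩
  set f : X →* ℤˣ := Equiv.Perm.sign.comp (MulAction.toPermHom X X)
  refine ⟨f.ker, inferInstance, ?_⟩
  have hft : f t = -1 := by
    have hs2 : (MulAction.toPermHom X X t) ^ 2 = 1 := by rw [← map_pow, ← ht, pow_orderOf_eq_one, map_one]
    show Equiv.Perm.sign (MulAction.toPermHom X X t) = -1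
    rw [Equiv.Perm.sign_of_pow_two_eq_one hs2]
    have : Fintype.card (Function.fixedPoints (MulAction.toPermHom X X t)) = 0 := by
      rw [Fintype.card_eq_zero_iff]
      exact ⟨fun x => by
        have hx : t * (x : X) = x := x.2
        rw [mul_eq_right] at hx
        rw [hx, orderOf_one] at ht
        omega⟩
    rw [this, ← Nat.card_eq_fintype_card, hX, Nat.sub_zero, Nat.mul_div_cancel_left _ two_pos]
    exact Odd.neg_one_pow (Nat.odd_iff.2 hm)
  rw [Subgroup.index_ker, MonoidHom.range_eq_top.2, Subgroup.card_top, Nat.card_eq_fintype_card, Fintype.card_units_int]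
  intro y
  rcases Int.units_eq_one_or y with rfl | rfl
  · exact ⟨1, map_one f⟩
  · exact ⟨t, hft⟩

end CfsgLib.SixThousand
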