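import Cfsg.Agent.SmallSimple.Basic
import Cfsg.Agent.S0985

/-!
# Conjugates of an intersection of two Sylow subgroups

If two Sylow subgroups of order `p ^ 2` meet in a line `D`, each Sylow subgroup containing `D`
contributes its own conjugates of `D` to the set of conjugates commuting with `D`.
-/

set_option autoImplicit false
set_option linter.style.haveILetI false
set_option linter.unusedSectionVars false

namespace CfsgLib.SixThousand

open Subgroup MulAction

variable {G : Type*} [Group G] [Finite G] {p : ℕ} [hp : Fact p.Prime]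

/-- Two Sylow subgroups meet in a subgroup of index `p` normalised by both. -/
theorem exists_intersection {a : ℕ} (hP : ∀ P : Sylow p G, Nat.card (P : Subgroup G) = p ^ (a + 1))
    (h : Nat.card (Sylow p G) % p ^ 2 ≠ 1) :
    ∃ (P R : Sylow p G) (D : Subgroup G), P ≠ R ∧ Nat.card D = p ^ a ∧ D ≤ (P : Subgroup G) ∧
      D ≤ (R : Subgroup G) ∧ (P : Subgroup G) ≤ normalizer (D : Set G) ∧ (R : Subgroup G) ≤ normalizer (D : Set G) := by
  have hp2 := hp.out.two_le
  obtain ⟨P, R, hne, hidx⟩ := Cfsg.Agent.S0985.result (G := G) p 2 (fun hmod => h (by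
    rw [Nat.ModEq, Nat.mod_eq_of_lt (Nat.one_lt_pow (by norm_num) hp.out.one_lt)] at hmod
    exact hmod))
  set D := (P : Subgroup G) ⊓ (R : Subgroup G) with hD
  have hcard : Nat.card D * ((R : Subgroup G).subgroupOf (P : Subgroup G)).index = p ^ (a + 1) := by
    rw [← hP P, ← ((R : Subgroup G).subgroupOf (P : Subgroup G)).card_mul_index]
    congr 1
    rw [hD, inf_comm, ← Nat.card_congr (subgroupOfEquivOfLe (inf_le_right : (R : Subgroup G) ⊓ P ≤ P)).toEquiv,
      inf_subgroupOf_right]
  obtain ⟨i, hi, hDi⟩ := (Nat.dvd_prime_pow hp.out).1 (Dvd.intro _ hcard)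
  have hne' : i ≠ a + 1 := fun h1 => hne (Sylow.ext (eq_of_le_of_card_ge
    (inf_eq_left.1 (eq_of_le_of_card_ge inf_le_left (by rw [hP P, ← hD, hDi, h1]))) (by rw [hP P, hP R])))
  have hia : i = a := by
    by_contra hia
    rw [hDi] at hcard
    have hidx' : ((R : Subgroup G).subgroupOf (P : Subgroup G)).index ≤ p := by simpa using hidx
    have h1 : p ^ (i + 2) ≤ p ^ (a + 1) := Nat.pow_le_pow_right hp.out.pos (by omega)
    have h2 := Nat.mul_le_mul_left (p ^ i) hidx'
    rw [hcard, ← pow_succ] at h2
    have := Nat.pow_lt_pow_right hp.out.one_lt (show i + 1 < i + 2 by omega)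
    omega
  have hnorm : ∀ Q : Sylow p G, D ≤ (Q : Subgroup G) → (Q : Subgroup G) ≤ normalizer (D : Set G) := by
    intro Q hQ
    have hidx2 : (D.subgroupOf (Q : Subgroup G)).index = p := by
      have h2 := (D.subgroupOf (Q : Subgroup G)).card_mul_index
      rw [Nat.card_congr (subgroupOfEquivOfLe hQ).toEquiv, hP Q, hDi, hia, pow_succ] at h2
      exact Nat.eq_of_mul_eq_mul_left (pow_pos hp.out.pos a) h2
    haveI : (D.subgroupOf (Q : Subgroup G)).Normal := Subgroup.normal_of_index_eq_minFac_card (by
      rw [hidx2, hP Q, Nat.pow_minFac (by omega), hp.out.minFac_eq])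
    exact le_normalizer_of_normal_subgroupOf hQ
  exact ⟨P, R, D, hne, hia ▸ hDi, inf_le_left, inf_le_right, hnorm P inf_le_left, hnorm R inf_le_right⟩

/-- The normaliser of the intersection, seen from one of the two Sylow subgroups. -/
theorem normalizer_data [IsSimpleGroup G] {n b : ℕ} (hn : Nat.card G = n) {P R : Sylow p G} {D : Subgroup G}
    (hne : P ≠ R) (hD1 : D ≠ ⊥) (hDP : D ≤ (P : Subgroup G)) (hPn : Nat.card (P : Subgroup G) < n)
    (hb : Nat.card (normalizer ((P : Subgroup G) : Set G)) = b)
    (hPX : (P : Subgroup G) ≤ normalizer (D : Set G)) (hRX : (R : Subgroup G) ≤ normalizer (D : Set G)) :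
    ∃ k a i : ℕ, Nat.card (normalizer (D : Set G)) = k * a ∧
      Nat.card (normalizer (D : Set G) ⊓ normalizer ((P : Subgroup G) : Set G) : Subgroup G) = a ∧
      (normalizer (D : Set G)).index = i ∧ normalizer (D : Set G) ≠ ⊤ ∧
      k % p = 1 ∧ k ≠ 1 ∧ Nat.card (P : Subgroup G) ∣ a ∧ a ∣ b ∧ k * a * i = n := by
  set X := normalizer (D : Set G)
  set N := normalizer ((P : Subgroup G) : Set G)
  let P' : Sylow p X := P.subtype hPX
  have hk := CfsgLib.SmallSimple.card_sylow_mul P'
  rw [show ((P' : Subgroup X) : Set X) = (((P : Subgroup G).subgroupOf X : Subgroup X) : Set X) from rfl,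
    ← subgroupOf_normalizer_eq hPX] at hk
  have hNX : Nat.card (N.subgroupOf X) = Nat.card (X ⊓ N : Subgroup G) := by
    rw [inf_comm, ← Nat.card_congr (subgroupOfEquivOfLe (inf_le_right : N ⊓ X ≤ X)).toEquiv,
      inf_subgroupOf_right]
  rw [hNX] at hk
  refine ⟨Nat.card (Sylow p X), Nat.card (X ⊓ N : Subgroup G), X.index, hk.symm, rfl, rfl, ?_,
    Eq.trans (card_sylow_modEq_one p X) (Nat.mod_eq_of_lt hp.out.one_lt), ?_,
    card_dvd_of_le (le_inf hPX le_normalizer), hb ▸ card_dvd_of_le inf_le_right, ?_⟩
  · intro htop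
    haveI hnormal : D.Normal := normalizer_eq_top_iff.1 htop
    rcases IsSimpleGroup.eq_bot_or_eq_top_of_normal D hnormal with h | h
    · exact hD1 h
    · have h1 := Subgroup.card_le_of_le hDP
      rw [h, Subgroup.card_top, hn] at h1
      omega
  · intro h1
    rw [h1, one_mul] at hk
    have hXN : X ≤ N := inf_eq_left.1 (eq_of_le_of_card_ge inf_le_left (by rw [hk]))
    refine hne (Sylow.ext ?_)
    refine (eq_of_le_of_card_ge (fun y hy => ?_) (Nat.card_congr (P.equiv R).toEquiv).le).symm
    obtain ⟨m, hm⟩ := IsPGroup.iff_card.1 R.2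
    exact CfsgLib.SmallSimple.mem_sylow_of_smul_eq (n := m) (by
      rw [← hm]
      exact congrArg Subtype.val (pow_card_eq_one' (x := (⟨y, hy⟩ : (R : Subgroup G))))) P
      (Sylow.smul_eq_iff_mem_normalizer.2 (hXN (hRX hy)))
  · rw [hk, X.card_mul_index, hn]

/-- The conjugate of `D` belonging to a coset of its normaliser. -/
noncomputable def line (D : Subgroup G) (c : G ⧸ normalizer (D : Set G)) : Subgroup G :=
  D.map (MulAut.conj c.out).toMonoidHom

omit [Finite G] in
theorem mem_line_mk {D : Subgroup G} (a y : G) :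
    y ∈ line D (a : G ⧸ normalizer (D : Set G)) ↔ a⁻¹ * y * a ∈ D := by
  obtain ⟨x, hx⟩ := QuotientGroup.mk_out_eq_mul (normalizer (D : Set G)) a
  rw [line, Subgroup.mem_map_equiv, MulAut.conj_symm_apply, hx, mul_inv_rev,
    show (x : G)⁻¹ * a⁻¹ * y * (a * (x : G)) = (x : G)⁻¹ * (a⁻¹ * y * a) * x by group]
  exact (mem_normalizer_iff''.1 x.2 _).symm

omit [Finite G] in
theorem mem_line_smul {D : Subgroup G} (u : G) (c : G ⧸ normalizer (D : Set G)) (y : G) :
    y ∈ line D (u • c) ↔ u⁻¹ * y * u ∈ line D c := by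
  induction c using QuotientGroup.induction_on with
  | _ a =>
    rw [Quotient.smul_coe, mem_line_mk, mem_line_mk, smul_eq_mul, mul_inv_rev]
    simp only [mul_assoc]

omit [Finite G] in
theorem line_injective (D : Subgroup G) : Function.Injective (line D) := by
  intro c d h
  induction c using QuotientGroup.induction_on with
  | _ a =>
    induction d using QuotientGroup.induction_on with
    | _ b =>
      rw [QuotientGroup.eq, mem_normalizer_iff]
      intro y
      have h1 := SetLike.ext_iff.1 h (b * y * b⁻¹)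
      rw [mem_line_mk, mem_line_mk] at h1
      simp only [mul_assoc, inv_mul_cancel, mul_one, inv_mul_cancel_left] at h1
      rw [← h1]
      simp only [mul_assoc, mul_inv_rev, inv_inv]

omit [Finite G] in
theorem card_line (D : Subgroup G) (c : G ⧸ normalizer (D : Set G)) : Nat.card (line D c) = Nat.card D :=
  (Nat.card_congr (Subgroup.equivMapOfInjective _ _ (MulAut.conj c.out).injective).toEquiv).symm

/-- Two different lines in a group of order `p ^ 2` generate it. -/
theorem sup_lines {L L' P : Subgroup G} (hL : L ≤ P) (hL' : L' ≤ P) (h : Nat.card L = p) (h' : Nat.card L' = p)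
    (hP : Nat.card P = p ^ 2) (hne : L ≠ L') : L ⊔ L' = P := by
  refine eq_of_le_of_card_ge (sup_le hL hL') ?_
  obtain ⟨i, hi, hc⟩ := (Nat.dvd_prime_pow hp.out).1 (hP ▸ card_dvd_of_le (sup_le hL hL'))
  rw [hP, hc]
  refine Nat.pow_le_pow_right hp.out.pos ?_
  by_contra hlt
  push Not at hlt
  have hle : Nat.card (L ⊔ L' : Subgroup G) ≤ p := by
    rw [hc]
    calc p ^ i ≤ p ^ 1 := Nat.pow_le_pow_right hp.out.pos (by omega)
      _ = p := pow_one p
  exact hne ((eq_of_le_of_card_ge le_sup_left (hle.trans h.ge)).trans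
    (eq_of_le_of_card_ge le_sup_right (hle.trans h'.ge)).symm)

/-- Commuting with a line, for the conjugates of `D`. -/
theorem two_mul_lines_le {P : Sylow p G} {D : Subgroup G} (hP : Nat.card (P : Subgroup G) = p ^ 2)
    (hD : Nat.card D = p) (hDP : D ≤ (P : Subgroup G)) {k a i j : ℕ}
    (hX : Nat.card (normalizer (D : Set G)) = k * a)
    (ha : Nat.card (normalizer (D : Set G) ⊓ normalizer ((P : Subgroup G) : Set G) : Subgroup G) = a)
    (hi : (normalizer (D : Set G)).index = i)
    (hj : Nat.card (normalizer ((P : Subgroup G) : Set G)) = j * a) (hj2 : 2 ≤ j) :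
    2 * (1 + k * (j - 1)) ≤ i + (p + 1) := by
  classical
  set X := normalizer (D : Set G)
  set N := normalizer ((P : Subgroup G) : Set G)
  haveI := Fintype.ofFinite (G ⧸ X)
  have ha0 : 0 < a := ha ▸ Nat.card_pos
  have hab : ∀ y ∈ (P : Subgroup G), ∀ z ∈ (P : Subgroup G), z * y = y * z := fun y hy z hz =>
    congrArg Subtype.val ((IsPGroup.isMulCommutative_of_card_eq_prime_sq hP).is_comm.comm (⟨z, hz⟩ : (P : Subgroup G)) ⟨y, hy⟩)
  set base : G ⧸ X := ((1 : G) : G ⧸ X) with hbase
  have hline1 : line D base = D := by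
    ext y
    rw [hbase, mem_line_mk, inv_one, one_mul, mul_one]
  have hsmul_base : ∀ u : G, u • base = (u : G ⧸ X) := fun u => by
    rw [hbase, Quotient.smul_coe, smul_eq_mul, mul_one]
  -- the conjugates under the normaliser of `P`
  set O := Finset.univ.filter fun c : G ⧸ X => ∃ u ∈ N, u • base = c with hOdef
  have hO : O.card = j := by
    haveI := Fintype.ofFinite N
    haveI := Fintype.ofFinite (MulAction.stabilizer N base)
    have h1 := MulAction.card_orbit_mul_card_stabilizer_eq_card_group N base
    rw [← Nat.card_eq_fintype_card, ← Nat.card_eq_fintype_card, ← Nat.card_eq_fintype_card] at h1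
    have h2 : Nat.card (MulAction.orbit N base) = O.card := by
      rw [← Nat.card_eq_finsetCard]
      refine Nat.card_congr (Equiv.subtypeEquivRight fun c => ?_)
      simp only [hOdef, Finset.mem_filter, Finset.mem_univ, true_and]
      exact ⟨fun ⟨u, hu⟩ => ⟨u, u.2, hu⟩, fun ⟨u, hu, h⟩ => ⟨⟨u, hu⟩, h⟩⟩
    have h3 : Nat.card (MulAction.stabilizer N base) = a := by
      rw [← ha]
      refine Nat.card_congr ⟨fun u => ⟨(u.1 : G), mem_inf.2 ⟨?_, u.1.2⟩⟩, fun y => ⟨⟨y, (mem_inf.1 y.2).2⟩, ?_⟩,
        fun u => rfl, fun y => rfl⟩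
      · have h : ((u.1 : G) : G ⧸ X) = ((1 : G) : G ⧸ X) := (hsmul_base _).symm.trans u.2
        rw [QuotientGroup.eq, mul_one, X.inv_mem_iff] at h
        exact h
      · show (y : G) • base = base
        rw [hsmul_base, hbase, QuotientGroup.eq, mul_one, X.inv_mem_iff]
        exact (mem_inf.1 y.2).1
    rw [h2, h3, hj] at h1
    exact Nat.eq_of_mul_eq_mul_right ha0 h1
  have hbO : base ∈ O := Finset.mem_filter.2 ⟨Finset.mem_univ _, 1, N.one_mem, one_smul G base⟩
  have hOP : ∀ c ∈ O, line D c ≤ (P : Subgroup G) := fun c hc y hy => by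
    obtain ⟨u, hu, rfl⟩ := (Finset.mem_filter.1 hc).2
    rw [mem_line_smul, hline1] at hy
    exact (mem_normalizer_iff''.1 hu y).2 (hDP hy)
  set W := fun c : G ⧸ X => Finset.univ.filter fun e : G ⧸ X =>
    line D e ≤ centralizer ((line D c : Subgroup G) : Set G) with hWdef
  -- many conjugates commute with `D`
  have hW : 1 + k * (j - 1) ≤ (W base).card := by
    set A := N.subgroupOf X
    have hA : Nat.card A = a := by
      rw [← ha, inf_comm, ← Nat.card_congr (subgroupOfEquivOfLe (inf_le_right : N ⊓ X ≤ X)).toEquiv,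
        inf_subgroupOf_right]
    haveI := Fintype.ofFinite (X ⧸ A)
    have hk : Fintype.card (X ⧸ A) = k := by
      have h := A.card_eq_card_quotient_mul_card_subgroup
      rw [hX, hA, ← Nat.card_eq_fintype_card] at *
      exact (Nat.eq_of_mul_eq_mul_right ha0 h).symm
    have hfixb : ∀ x ∈ X, x • base = base := fun x hx => by
      rw [hsmul_base, hbase, QuotientGroup.eq, mul_one, X.inv_mem_iff]
      exact hx
    have hle : ((Finset.univ : Finset (X ⧸ A)) ×ˢ O.erase base).card ≤ ((W base).erase base).card := by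
      refine Finset.card_le_card_of_injOn (fun q => ((q.1.out : X) : G) • q.2) (fun q hq => ?_) ?_
      · simp only [Finset.coe_product, Set.mem_prod, Finset.coe_univ, Set.mem_univ, true_and, Finset.mem_coe,
          Finset.mem_erase] at hq
        refine Finset.mem_erase.2 ⟨fun h => hq.1 ?_, Finset.mem_filter.2 ⟨Finset.mem_univ _, fun y hy => ?_⟩⟩
        · have h' : ((q.1.out : X) : G) • q.2 = base := h
          rw [← smul_left_cancel_iff ((q.1.out : X) : G), h', hfixb _ q.1.out.2]
        · rw [mem_line_smul] at hy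
          have hy' := hOP _ hq.2 hy
          refine mem_centralizer_iff.2 fun z hz => ?_
          rw [SetLike.mem_coe, hline1] at hz
          set x := ((q.1.out : X) : G)
          have hz' : x⁻¹ * z * x ∈ (P : Subgroup G) := hDP ((mem_normalizer_iff''.1 q.1.out.2 z).1 hz)
          have h1 := hab _ hy' _ hz'
          calc z * y = x * ((x⁻¹ * z * x) * (x⁻¹ * y * x)) * x⁻¹ := by group
            _ = x * ((x⁻¹ * y * x) * (x⁻¹ * z * x)) * x⁻¹ := by rw [h1]
            _ = y * z := by group
      · rintro ⟨q, o⟩ hq ⟨q', o'⟩ hq' he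
        simp only [Finset.coe_product, Set.mem_prod, Finset.coe_univ, Set.mem_univ, true_and, Finset.mem_coe,
          Finset.mem_erase] at hq hq'
        set x := ((q.out : X) : G)
        set x' := ((q'.out : X) : G)
        have he' : x • o = x' • o' := he
        set z := x⁻¹ * x' with hz
        have hzo : o = z • o' := by rw [hz, mul_smul, ← he', inv_smul_smul]
        have hzX : z ∈ X := X.mul_mem (X.inv_mem q.out.2) q'.out.2
        set P' := (P : Subgroup G).map (MulAut.conj z).toMonoidHom
        have hD' : D ≤ P' := fun y hy => by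
          rw [Subgroup.mem_map_equiv, MulAut.conj_symm_apply]
          exact hDP ((mem_normalizer_iff''.1 hzX y).1 hy)
        have ho' : line D o ≤ P' := fun y hy => by
          rw [Subgroup.mem_map_equiv, MulAut.conj_symm_apply]
          rw [hzo, mem_line_smul] at hy
          exact hOP _ hq'.2 hy
        have hne : D ≠ line D o := fun h => hq.1 (line_injective D (h.symm.trans hline1.symm))
        have hsup := sup_lines hDP (hOP _ hq.2) hD ((card_line D o).trans hD) hP hne
        have hPP : (P : Subgroup G) = P' := eq_of_le_of_card_ge (hsup ▸ sup_le hD' ho')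
          (by rw [← Nat.card_congr (Subgroup.equivMapOfInjective _ _ (MulAut.conj z).injective).toEquiv])
        have hzN : z ∈ N := mem_normalizer_iff''.2 fun y => by
          have := SetLike.ext_iff.1 hPP y
          rwa [Subgroup.mem_map_equiv, MulAut.conj_symm_apply] at this
        have hqq : q = q' := by
          rw [← QuotientGroup.out_eq' q, ← QuotientGroup.out_eq' q', QuotientGroup.eq, mem_subgroupOf]
          exact hzN
        subst hqq
        exact Prod.ext rfl (smul_left_cancel _ he')
    have hbW : base ∈ W base := Finset.mem_filter.2 ⟨Finset.mem_univ _, fun y hy =>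
      mem_centralizer_iff.2 fun z hz => hab _ (hDP (hline1 ▸ hy)) _ (hDP (hline1 ▸ hz))⟩
    rw [Finset.card_product, Finset.card_univ, hk, Finset.card_erase_of_mem hbO, hO,
      Finset.card_erase_of_mem hbW] at hle
    have : 0 < (W base).card := Finset.card_pos.2 ⟨_, hbW⟩
    omega
  -- a second conjugate inside `P`
  obtain ⟨d, hdO, hdb⟩ : ∃ d ∈ O, d ≠ base := Finset.exists_mem_ne (by omega) base
  obtain ⟨u, hu, hud⟩ := (Finset.mem_filter.1 hdO).2
  have hW' : (W base).card ≤ (W d).card := by
    refine Finset.card_le_card_of_injOn (fun c => u • c) (fun c hc => ?_) (Set.injOn_of_injective (MulAction.injective u))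
    refine Finset.mem_filter.2 ⟨Finset.mem_univ _, fun y hy => mem_centralizer_iff.2 fun z hz => ?_⟩
    rw [mem_line_smul] at hy
    rw [SetLike.mem_coe, ← hud, mem_line_smul] at hz
    have h1 := mem_centralizer_iff.1 ((Finset.mem_filter.1 hc).2 hy) _ hz
    calc z * y = u * ((u⁻¹ * z * u) * (u⁻¹ * y * u)) * u⁻¹ := by group
      _ = u * ((u⁻¹ * y * u) * (u⁻¹ * z * u)) * u⁻¹ := by rw [h1]
      _ = y * z := by group
  set U := Finset.univ.filter fun c : G ⧸ X => line D c ≤ (P : Subgroup G)
  have hinter : W base ∩ W d ⊆ U := fun c hc => by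
    obtain ⟨h1, h2⟩ := Finset.mem_inter.1 hc
    refine Finset.mem_filter.2 ⟨Finset.mem_univ _, fun y hy => ?_⟩
    have e1 := (Finset.mem_filter.1 h1).2 hy
    have e2 := (Finset.mem_filter.1 h2).2 hy
    rw [hline1] at e1
    have hne : D ≠ line D d := fun h => hdb (line_injective D (h.symm.trans hline1.symm))
    have hsup := sup_lines hDP (hOP _ hdO) hD ((card_line D d).trans hD) hP hne
    have hyc : y ∈ centralizer ((P : Subgroup G) : Set G) := by
      refine mem_centralizer_iff.2 fun z hz => ?_
      have hle : (P : Subgroup G) ≤ centralizer ({y} : Set G) := hsup ▸ sup_le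
        (fun w hw => mem_centralizer_singleton_iff.2 (mem_centralizer_iff.1 e1 w hw))
        (fun w hw => mem_centralizer_singleton_iff.2 (mem_centralizer_iff.1 e2 w hw))
      exact mem_centralizer_singleton_iff.1 (hle hz)
    have hyp : y ^ p ^ 1 = 1 := by
      rw [pow_one]
      have := congrArg Subtype.val (pow_card_eq_one' (x := (⟨y, hy⟩ : line D c)))
      rwa [card_line, hD] at this
    exact CfsgLib.SmallSimple.mem_sylow_of_smul_eq hyp P
      (Sylow.smul_eq_iff_mem_normalizer.2 (centralizer_le_normalizer _ hyc))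
  -- at most `p + 1` lines in `P`
  have hU : U.card * (p - 1) ≤ p ^ 2 - 1 := by
    haveI := Fintype.ofFinite G
    set T := Finset.univ.filter fun y : G => y ∈ D ∧ y ≠ 1
    set T' := Finset.univ.filter fun y : G => y ∈ (P : Subgroup G) ∧ y ≠ 1
    have hT : ∀ {H : Subgroup G}, (Finset.univ.filter fun y : G => y ∈ H ∧ y ≠ 1).card = Nat.card H - 1 := by
      intro H
      rw [show (Finset.univ.filter fun y : G => y ∈ H ∧ y ≠ 1) = (Finset.univ.filter fun y : G => y ∈ H).erase 1 by
        ext y; simp [and_comm], Finset.card_erase_of_mem (by simp), ← Nat.card_eq_finsetCard]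
      congr 1
      exact Nat.card_congr (Equiv.subtypeEquivRight fun y => by simp)
    have hle : (U ×ˢ T).card ≤ T'.card := by
      refine Finset.card_le_card_of_injOn (fun q => q.1.out * q.2 * q.1.out⁻¹) (fun q hq => ?_) ?_
      · obtain ⟨h1, h2⟩ := Finset.mem_product.1 hq
        obtain ⟨hqD, hq1⟩ := (Finset.mem_filter.1 h2).2
        refine Finset.mem_filter.2 ⟨Finset.mem_univ _, (Finset.mem_filter.1 h1).2 ⟨q.2, hqD, rfl⟩, ?_⟩
        simpa using hq1
      · rintro ⟨c, y⟩ hq ⟨c', y'⟩ hq' he
        obtain ⟨hyD, hy1⟩ := (Finset.mem_filter.1 (Finset.mem_product.1 hq).2).2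
        obtain ⟨hyD', hy1'⟩ := (Finset.mem_filter.1 (Finset.mem_product.1 hq').2).2
        set v := c.out * y * c.out⁻¹
        have hv : v = c'.out * y' * c'.out⁻¹ := he
        have hv1 : v ≠ 1 := by simpa [v] using hy1
        have key : ∀ e : G ⧸ X, v ∈ line D e → line D e = zpowers v := fun e hve => by
          refine (eq_of_le_of_card_ge (zpowers_le.2 hve) ?_).symm
          rw [card_line, hD, Nat.card_zpowers]
          have h := Subgroup.orderOf_dvd_natCard _ hve
          rw [card_line, hD] at h
          exact (((Nat.dvd_prime hp.out).1 h).resolve_left fun h1 => hv1 (orderOf_eq_one_iff.1 h1)).ge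
        have hcc : c = c' := line_injective D ((key c ⟨y, hyD, rfl⟩).trans (key c' ⟨y', hyD', hv.symm⟩).symm)
        subst hcc
        exact Prod.ext rfl (mul_left_cancel (mul_right_cancel hv))
    rw [Finset.card_product, hT, hT, hD, hP] at hle
    exact hle
  have hU' : U.card ≤ p + 1 := by
    by_contra hlt
    push Not at hlt
    have h := Nat.mul_le_mul_right (p - 1) hlt
    have h2 := hp.out.two_le
    obtain ⟨q, hq⟩ : ∃ q, p = q + 1 := ⟨p - 1, by omega⟩
    have h3 : (p + 1).succ * (p - 1) = p ^ 2 + p - 2 := by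
      subst hq
      simp only [Nat.add_sub_cancel]
      rw [show (q + 1) ^ 2 + (q + 1) = q * q + 3 * q + 2 by ring, Nat.add_sub_cancel]
      rw [Nat.succ_eq_add_one]; ring
    have h4 : p ≤ p ^ 2 := Nat.le_self_pow (by norm_num) p
    rw [h3] at h
    omega
  have hunion : (W base ∪ W d).card ≤ i := by
    rw [← hi, Subgroup.index_eq_card, Nat.card_eq_fintype_card]
    exact Finset.card_le_univ _
  have := Finset.card_union_add_card_inter (W base) (W d)
  have := Finset.card_le_card hinter
  omega

end CfsgLib.SixThousand
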