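import Cfsg.Agent.SmallSimple.SixThousand.Tools
import Cfsg.Agent.SmallSimple.SixThousand.Lines

/-!
# The orders 3920, 4725, 5096, 5400, 5600, 5880, 6000

In each case a Sylow subgroup has order `p ^ 2` or `p ^ 3`, and two of them meet in a subgroup of
index `p` with a large normaliser.
-/

set_option autoImplicit false
set_option linter.style.haveILetI false
set_option linter.unusedSectionVars false

namespace CfsgLib.SixThousand

open Subgroup MulAction

variable {G : Type*} [Group G] [Finite G] [IsSimpleGroup G]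

/-- The order, number and normaliser of the Sylow subgroups. -/
theorem sylow_data {n p b m : ℕ} [hp : Fact p.Prime] (hn : Nat.card G = n) (hm : n = p ^ b * m)
    (hpm : ¬ p ∣ m) (hb : b ≠ 0) (hm1 : 1 < m) :
    (∀ P : Sylow p G, Nat.card (P : Subgroup G) = p ^ b) ∧ Nat.card (Sylow p G) ∣ m ∧
      Nat.card (Sylow p G) % p = 1 ∧ Nat.card (Sylow p G) ≠ 1 ∧
      (∀ P : Sylow p G, ∀ b' : ℕ, Nat.card (Sylow p G) * b' = m →
        Nat.card (normalizer ((P : Subgroup G) : Set G)) = p ^ b * b') := by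
  have hP : ∀ P : Sylow p G, Nat.card (P : Subgroup G) = p ^ b := fun P =>
    CfsgLib.SmallSimple.card_sylow_eq P (hn.trans hm) hpm
  obtain ⟨P⟩ : Nonempty (Sylow p G) := inferInstance
  have h1 : 1 < p ^ b := Nat.one_lt_pow hb hp.out.one_lt
  refine ⟨hP, ?_, Eq.trans (card_sylow_modEq_one p G) (Nat.mod_eq_of_lt hp.out.one_lt),
    CfsgLib.SmallSimple.card_sylow_ne_one P (by rw [hP]; exact h1) (by rw [hP, hn, hm]; exact lt_mul_of_one_lt_right (by omega) hm1), ?_⟩
  · have h := P.card_dvd_index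
    have h2 := (P : Subgroup G).card_mul_index
    rw [hP, hn, hm] at h2
    rwa [Nat.eq_of_mul_eq_mul_left (by omega) h2] at h
  · intro Q b' hb'
    have h := CfsgLib.SmallSimple.card_sylow_mul Q
    rw [hn, hm, ← hb', mul_left_comm] at h
    exact Nat.eq_of_mul_eq_mul_left Nat.card_pos h

/-- The admissible numbers of Sylow subgroups. -/
def countB (p m : ℕ) (L : List ℕ) : Bool :=
  (List.range (m + 1)).all fun k => !(m % k == 0 && k % p == 1 && k != 1) || L.contains k

theorem mem_count {p m k : ℕ} {L : List ℕ} (h : countB p m L = true) (hm : m ≠ 0) (hk : k ∣ m)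
    (hk1 : k % p = 1) (hk2 : k ≠ 1) : k ∈ L := by
  have := List.all_eq_true.1 h k (List.mem_range.2 (Nat.lt_succ_of_le (Nat.le_of_dvd (Nat.pos_of_ne_zero hm) hk)))
  simpa [Nat.mod_eq_zero_of_dvd hk, hk1, hk2] using this

/-- The number of Sylow subgroups is the index of a proper subgroup. -/
theorem false_of_count {n p b m : ℕ} [Fact p.Prime] (hn : Nat.card G = n) (hm : n = p ^ b * m)
    (hpm : ¬ p ∣ m) (hb : b ≠ 0) (hm1 : 1 < m) {k : ℕ} (hk : Nat.card (Sylow p G) = k)
    (hd : k.factorial % n ≠ 0) : False := by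
  obtain ⟨-, -, -, hne, -⟩ := sylow_data (G := G) hn hm hpm hb hm1
  obtain ⟨P⟩ : Nonempty (Sylow p G) := inferInstance
  refine not_index_dvd (fun h => hne ?_) hn (P.card_eq_index_normalizer.symm.trans hk) hd
  rw [P.card_eq_index_normalizer, h, index_top]

/-- Burnside, for a self-normalising abelian Sylow subgroup. -/
theorem false_of_self_normalizing {n p : ℕ} [hp : Fact p.Prime] (hn : Nat.card G = n) (hn2 : p ^ 2 < n)
    (hP : ∀ P : Sylow p G, Nat.card (P : Subgroup G) = p ^ 2)
    (hN : ∀ P : Sylow p G, Nat.card (normalizer ((P : Subgroup G) : Set G)) = p ^ 2) : False := by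
  obtain ⟨P⟩ : Nonempty (Sylow p G) := inferInstance
  refine CfsgLib.SmallSimple.not_le_centralizer P (by rw [hP]; exact Nat.one_lt_pow (by norm_num) hp.out.one_lt)
    (by rw [hP, hn]; exact hn2) ?_
  rw [← eq_of_le_of_card_ge (le_normalizer : (P : Subgroup G) ≤ _) (by rw [hP, hN])]
  intro y hy
  refine mem_centralizer_iff.2 fun z hz => ?_
  exact congrArg Subtype.val
    ((IsPGroup.isMulCommutative_of_card_eq_prime_sq (hP P)).is_comm.comm (⟨z, hz⟩ : (P : Subgroup G)) ⟨y, hy⟩)

/-- The admissible normalisers of an intersection. -/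
def normB (n p m b : ℕ) (L : List (ℕ × ℕ)) : Bool :=
  (List.range (m + 1)).all fun k => (List.range (b + 1)).all fun d =>
    !(k % p == 1 && k != 1 && b % d == 0 && m % (k * d) == 0 && (m / (k * d)).factorial % n == 0) ||
      L.contains (k, d)

/-- The normaliser of the intersection of two Sylow subgroups, with its possible orders. -/
theorem exists_normalizer {n p e m b : ℕ} [hp : Fact p.Prime] (hn : Nat.card G = n) (hm : n = p ^ (e + 1) * m)
    (hpm : ¬ p ∣ m) (he : e ≠ 0) (hm1 : 1 < m) (h : Nat.card (Sylow p G) % p ^ 2 ≠ 1)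
    (hb : Nat.card (Sylow p G) * b = m) {L : List (ℕ × ℕ)} (hL : normB n p m b L = true) :
    ∃ (P R : Sylow p G) (D : Subgroup G) (k d i : ℕ), (k, d) ∈ L ∧ P ≠ R ∧ Nat.card D = p ^ e ∧
      D ≤ (P : Subgroup G) ∧ (P : Subgroup G) ≤ normalizer (D : Set G) ∧
      (R : Subgroup G) ≤ normalizer (D : Set G) ∧
      Nat.card (normalizer (D : Set G)) = k * (p ^ (e + 1) * d) ∧
      Nat.card (normalizer (D : Set G) ⊓ normalizer ((P : Subgroup G) : Set G) : Subgroup G) = p ^ (e + 1) * d ∧
      (normalizer (D : Set G)).index = i ∧ k * d * i = m ∧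
      Nat.card (normalizer ((P : Subgroup G) : Set G)) = p ^ (e + 1) * b := by
  obtain ⟨hP, -, -, -, hN⟩ := sylow_data (G := G) hn hm hpm (Nat.succ_ne_zero e) hm1
  obtain ⟨P, R, D, hne, hD, hDP, -, hPX, hRX⟩ := exists_intersection hP h
  have hD1 : D ≠ ⊥ := fun hbot => by
    rw [hbot, Subgroup.card_bot] at hD
    exact absurd hD (Nat.one_lt_pow he hp.out.one_lt).ne
  have hp0 : 0 < p ^ (e + 1) := pow_pos hp.out.pos _
  obtain ⟨k, a, i, hX, ha, hi, htop, hk1, hk2, hPa, hab, hkai⟩ := normalizer_data hn hne hD1 hDP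
    (by rw [hP, hm]; exact lt_mul_of_one_lt_right hp0 hm1) (hN P b hb) hPX hRX
  obtain ⟨d, rfl⟩ : p ^ (e + 1) ∣ a := hP P ▸ hPa
  have hdb : d ∣ b := Nat.dvd_of_mul_dvd_mul_left hp0 hab
  have hkdi : k * d * i = m := Nat.eq_of_mul_eq_mul_left hp0 (by rw [← hm, ← hkai]; ring)
  have hm0 : 0 < m := by omega
  have hb0 : 0 < b := by
    rcases Nat.eq_zero_or_pos b with rfl | h'
    · simp at hb; omega
    · exact h'
  have hkm : k ≤ m := Nat.le_of_dvd hm0 ⟨d * i, by rw [← hkdi, mul_assoc]⟩
  have hmem := List.all_eq_true.1 (List.all_eq_true.1 hL k (List.mem_range.2 (Nat.lt_succ_of_le hkm))) d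
    (List.mem_range.2 (Nat.lt_succ_of_le (Nat.le_of_dvd hb0 hdb)))
  have hkd : 0 < k * d := Nat.pos_of_ne_zero fun h0 => by rw [h0, zero_mul] at hkdi; omega
  have hfac : (m / (k * d)).factorial % n = 0 := by
    rw [← hkdi, Nat.mul_div_cancel_left _ hkd, ← hi, ← hn]
    exact Nat.mod_eq_zero_of_dvd (CfsgLib.SmallSimple.card_dvd_factorial _ htop)
  have hmk : m % (k * d) = 0 := Nat.mod_eq_zero_of_dvd ⟨i, hkdi.symm⟩
  simp only [hk1, hfac, hmk, Nat.mod_eq_zero_of_dvd hdb] at hmem
  refine ⟨P, R, D, k, d, i, ?_, hne, hD, hDP, hPX, hRX, hX, ha, hi, hkdi, hN P b hb⟩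
  simpa [hk2] using hmem

theorem false_of_thirty_nine_twenty (hn : Nat.card G = 3920) : False := by
  haveI : Fact (Nat.Prime 7) := ⟨by norm_num⟩
  have hm : (3920 : ℕ) = 7 ^ 2 * 80 := by norm_num
  obtain ⟨-, hdvd, h1, h2, -⟩ := sylow_data (G := G) (p := 7) hn hm (by norm_num) (by norm_num) (by norm_num)
  have hk := mem_count (L := [8]) (by decide +kernel) (by norm_num) hdvd h1 h2
  simp only [List.mem_singleton] at hk
  exact false_of_count hn hm (by norm_num) (by norm_num) (by norm_num) hk (by decide +kernel)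

theorem false_of_fifty_ninety_six (hn : Nat.card G = 5096) : False := by
  haveI : Fact (Nat.Prime 7) := ⟨by norm_num⟩
  have hm : (5096 : ℕ) = 7 ^ 2 * 104 := by norm_num
  obtain ⟨-, hdvd, h1, h2, -⟩ := sylow_data (G := G) (p := 7) hn hm (by norm_num) (by norm_num) (by norm_num)
  have hk := mem_count (L := [8]) (by decide +kernel) (by norm_num) hdvd h1 h2
  simp only [List.mem_singleton] at hk
  exact false_of_count hn hm (by norm_num) (by norm_num) (by norm_num) hk (by decide +kernel)

theorem false_of_forty_seven_twenty_five (hn : Nat.card G = 4725) : False := by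
  haveI : Fact (Nat.Prime 5) := ⟨by norm_num⟩
  have hm : (4725 : ℕ) = 5 ^ (1 + 1) * 189 := by norm_num
  obtain ⟨-, hdvd, h1, h2, -⟩ := sylow_data (G := G) (p := 5) hn hm (by norm_num) (by norm_num) (by norm_num)
  have hk := mem_count (L := [21]) (by decide +kernel) (by norm_num) hdvd h1 h2
  simp only [List.mem_singleton] at hk
  obtain ⟨_, _, _, _, _, _, hmem, -⟩ := exists_normalizer (p := 5) hn hm (by norm_num) one_ne_zero (by norm_num)
    (by rw [hk]; norm_num) (b := 9) (by rw [hk]) (L := []) (by decide +kernel)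
  simp at hmem

theorem false_of_six_thousand (hn : Nat.card G = 6000) : False := by
  haveI : Fact (Nat.Prime 5) := ⟨by norm_num⟩
  have hm : (6000 : ℕ) = 5 ^ (2 + 1) * 48 := by norm_num
  obtain ⟨-, hdvd, h1, h2, -⟩ := sylow_data (G := G) (p := 5) hn hm (by norm_num) (by norm_num) (by norm_num)
  have hk := mem_count (L := [6, 16]) (by decide +kernel) (by norm_num) hdvd h1 h2
  simp only [List.mem_cons, List.not_mem_nil, or_false] at hk
  rcases hk with hk | hk
  · exact false_of_count hn hm (by norm_num) (by norm_num) (by norm_num) hk (by decide +kernel)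
  obtain ⟨_, _, _, _, _, _, hmem, -⟩ := exists_normalizer (p := 5) hn hm (by norm_num) two_ne_zero (by norm_num)
    (by rw [hk]; norm_num) (b := 3) (by rw [hk]) (L := []) (by decide +kernel)
  simp at hmem

theorem false_of_fifty_eight_eighty (hn : Nat.card G = 5880) : False := by
  haveI : Fact (Nat.Prime 7) := ⟨by norm_num⟩
  have hm : (5880 : ℕ) = 7 ^ (1 + 1) * 120 := by norm_num
  obtain ⟨hP, hdvd, h1, h2, hN⟩ := sylow_data (G := G) (p := 7) hn hm (by norm_num) (by norm_num) (by norm_num)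
  have hk := mem_count (L := [8, 15, 120]) (by decide +kernel) (by norm_num) hdvd h1 h2
  simp only [List.mem_cons, List.not_mem_nil, or_false] at hk
  rcases hk with hk | hk | hk
  · exact false_of_count hn hm (by norm_num) (by norm_num) (by norm_num) hk (by decide +kernel)
  · obtain ⟨P, R, D, k, d, i, hmem, -, hD, hDP, -, -, hX, ha, hi, hkdi, hNP⟩ :=
      exists_normalizer (p := 7) hn hm (by norm_num) one_ne_zero (by norm_num)
        (by rw [hk]; norm_num) (b := 8) (by rw [hk]) (L := [(8, 1)]) (by decide +kernel)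
    simp only [List.mem_singleton, Prod.mk.injEq] at hmem
    obtain ⟨rfl, rfl⟩ := hmem
    have := two_mul_lines_le (hP P) (hD.trans (pow_one 7)) hDP hX ha hi (j := 8) (by rw [hNP]; norm_num) (by norm_num)
    omega
  · exact false_of_self_normalizing hn (by norm_num) hP fun P => (hN P 1 (by rw [hk])).trans (mul_one _)

theorem false_of_fifty_six_hundred (hn : Nat.card G = 5600) : False := by
  haveI : Fact (Nat.Prime 5) := ⟨by norm_num⟩
  have hm : (5600 : ℕ) = 5 ^ (1 + 1) * 224 := by norm_num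
  obtain ⟨hP, hdvd, h1, h2, hN⟩ := sylow_data (G := G) (p := 5) hn hm (by norm_num) (by norm_num) (by norm_num)
  have hk := mem_count (L := [16, 56]) (by decide +kernel) (by norm_num) hdvd h1 h2
  simp only [List.mem_cons, List.not_mem_nil, or_false] at hk
  obtain ⟨b, hb, hb4, hL⟩ : ∃ b, Nat.card (Sylow 5 G) * b = 224 ∧ 4 ≤ b ∧ normB 5600 5 224 b [(16, 1)] = true := by
    rcases hk with hk | hk
    · exact ⟨14, by rw [hk], by norm_num, by decide +kernel⟩
    · exact ⟨4, by rw [hk], by norm_num, by decide +kernel⟩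
  obtain ⟨P, R, D, k, d, i, hmem, -, hD, hDP, -, -, hX, ha, hi, hkdi, hNP⟩ :=
    exists_normalizer (p := 5) hn hm (by norm_num) one_ne_zero (by norm_num)
      (by rcases hk with hk | hk <;> rw [hk] <;> norm_num) hb hL
  simp only [List.mem_singleton, Prod.mk.injEq] at hmem
  obtain ⟨rfl, rfl⟩ := hmem
  have := two_mul_lines_le (hP P) (hD.trans (pow_one 5)) hDP hX ha hi (j := b) (by rw [hNP]; ring) (by omega)
  omega

/-- A group of order 450 has one Sylow 5-subgroup. -/
theorem sylow_five_eq {X : Type*} [Group X] [Finite X] (hX : Nat.card X = 450) (P R : Sylow 5 X) : P = R := by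
  haveI : Fact (Nat.Prime 5) := ⟨by norm_num⟩
  obtain ⟨Y, hYn, hY⟩ := exists_index_two (m := 225) (by rw [hX]) (by norm_num)
  have hP : ∀ Q : Sylow 5 X, Nat.card (Q : Subgroup X) = 25 := fun Q =>
    CfsgLib.SmallSimple.card_sylow_eq Q (k := 2) (m := 18) (by rw [hX]; norm_num) (by norm_num)
  have hYc : Nat.card Y = 225 := by
    have := Y.card_mul_index
    rw [hY, hX] at this
    omega
  have hle : ∀ Q : Sylow 5 X, (Q : Subgroup X) ≤ Y := fun Q y hy => by
    rw [← QuotientGroup.eq_one_iff]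
    have h1 : (y : X ⧸ Y) ^ 2 = 1 := by rw [← hY]; exact pow_card_eq_one' (G := X ⧸ Y)
    have h2 : (y : X ⧸ Y) ^ 25 = 1 := by
      have := congrArg Subtype.val (pow_card_eq_one' (x := (⟨y, hy⟩ : (Q : Subgroup X))))
      rw [hP] at this
      rw [← QuotientGroup.mk_pow, show y ^ 25 = 1 from this, QuotientGroup.mk_one]
    rw [show (25 : ℕ) = 2 * 12 + 1 from rfl, pow_succ, pow_mul, h1, one_pow, one_mul] at h2
    exact h2
  haveI : Subsingleton (Sylow 5 Y) := by
    refine (Nat.card_eq_one_iff_unique.1 ?_).1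
    obtain ⟨Q⟩ : Nonempty (Sylow 5 Y) := inferInstance
    have hQ : Nat.card (Q : Subgroup Y) = 25 :=
      CfsgLib.SmallSimple.card_sylow_eq Q (k := 2) (m := 9) (by rw [hYc]; norm_num) (by norm_num)
    have h1 : (Q : Subgroup Y).index = 9 := by
      have := (Q : Subgroup Y).card_mul_index
      rw [hQ, hYc] at this
      omega
    have h2 := h1 ▸ Q.card_dvd_index
    have h3 : Nat.card (Sylow 5 Y) % 5 = 1 :=
      Eq.trans (card_sylow_modEq_one 5 Y) (Nat.mod_eq_of_lt (by norm_num))
    have h4 := Nat.le_of_dvd (by norm_num) h2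
    interval_cases Nat.card (Sylow 5 Y) <;> omega
  have h := congrArg (fun Q : Sylow 5 Y => (Q : Subgroup Y))
    (Subsingleton.elim (P.subtype (hle P)) (R.subtype (hle R)))
  simp only [Sylow.coe_subtype, subgroupOf_inj, inf_eq_left.2 (hle P), inf_eq_left.2 (hle R)] at h
  exact Sylow.ext h

theorem false_of_fifty_four_hundred (hn : Nat.card G = 5400) : False := by
  haveI : Fact (Nat.Prime 5) := ⟨by norm_num⟩
  have hm : (5400 : ℕ) = 5 ^ (1 + 1) * 216 := by norm_num
  obtain ⟨hP, hdvd, h1, h2, hN⟩ := sylow_data (G := G) (p := 5) hn hm (by norm_num) (by norm_num) (by norm_num)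
  have hk := mem_count (L := [6, 36, 216]) (by decide +kernel) (by norm_num) hdvd h1 h2
  simp only [List.mem_cons, List.not_mem_nil, or_false] at hk
  rcases hk with hk | hk | hk
  · exact false_of_count hn hm (by norm_num) (by norm_num) (by norm_num) hk (by decide +kernel)
  · obtain ⟨P, R, D, k, d, i, hmem, hne, hD, hDP, hPX, hRX, hX, ha, hi, hkdi, hNP⟩ :=
      exists_normalizer (p := 5) hn hm (by norm_num) one_ne_zero (by norm_num)
        (by rw [hk]; norm_num) (b := 6) (by rw [hk]) (L := [(6, 1), (6, 2), (6, 3)]) (by decide +kernel)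
    simp only [List.mem_cons, List.not_mem_nil, or_false, Prod.mk.injEq] at hmem
    rcases hmem with ⟨rfl, rfl⟩ | ⟨rfl, rfl⟩ | ⟨rfl, rfl⟩
    · have := two_mul_lines_le (hP P) (hD.trans (pow_one 5)) hDP hX ha hi (j := 6) (by rw [hNP]; norm_num) (by norm_num)
      omega
    · have := two_mul_lines_le (hP P) (hD.trans (pow_one 5)) hDP hX ha hi (j := 3) (by rw [hNP]; norm_num) (by norm_num)
      omega
    · have h := congrArg (fun Q : Sylow 5 (normalizer (D : Set G)) => (Q : Subgroup (normalizer (D : Set G))))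
        (sylow_five_eq (by rw [hX]; norm_num) (P.subtype hPX) (R.subtype hRX))
      simp only [Sylow.coe_subtype, subgroupOf_inj, inf_eq_left.2 hPX, inf_eq_left.2 hRX] at h
      exact hne (Sylow.ext h)
  · exact false_of_self_normalizing hn (by norm_num) hP fun P => (hN P 1 (by rw [hk])).trans (mul_one _)

end CfsgLib.SixThousand
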