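import Cfsg.Agent.SmallSimple.SixThousand.Tools

/-!
# Orders refuted by a column table
-/

set_option autoImplicit false
set_option linter.style.haveILetI false

namespace CfsgLib.SixThousand

open Subgroup CfsgLib.SylowCheck

variable {G : Type*} [Group G] [Finite G] [IsSimpleGroup G]

theorem false_of_column (hG : ¬ IsMulCommutative G) {n p e t k : ℕ} [Fact p.Prime] (g₀ : ZMod p)
    (hn : Nat.card G = n) (hr : Real G (p, k, 1)) (hm : k * (p * 1 * e) = n)
    (hp : p = 1 + e * t) (he : 0 < e) (ht : 0 < t) (hg : g₀ ≠ 0)
    (hgen : (Finset.univ : Finset (ZMod p)).val = 0 ::ₘ (Multiset.range (e * t)).map (fun i => g₀ ^ i))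
    (hroots : (Finset.univ.filter fun r : ZMod p => r ^ e = 1).card = e) (hroot : (g₀ ^ t) ^ e = 1)
    {D : List ℕ} {T : List (ℤ × ℤ)}
    (hD : ∀ d ∈ List.range (Nat.sqrt (n - 1) + 1), 2 ≤ d → d ∣ n → d ∈ D)
    (hT : ColumnTable.check n p e t D T = true) : False := by
  obtain ⟨g, -, -, hgo, hC, hN, -⟩ := exists_generator hr hn hm
  exact CfsgLib.ColumnData.false_of_table hG g₀ hn hp he ht hg hgen hgo (hC.trans (mul_one p))
    (exists_conj_pow hgo hC hN hroots hroot) hD hT

theorem false_of_forty_seven_sixty (hG : ¬ IsMulCommutative G) (hn : Nat.card G = 4760)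
    (hr : Real G (17, 35, 1)) : False := by
  haveI : Fact (Nat.Prime 17) := ⟨by norm_num⟩
  exact false_of_column hG (e := 8) (t := 2) (3 : ZMod 17) hn hr (by norm_num) (by norm_num) (by norm_num)
    (by norm_num) (by decide +kernel +revert) (by decide +kernel +revert) (by decide +kernel +revert)
    (by decide +kernel +revert)
    (D := [2, 4, 5, 7, 8, 10, 14, 17, 20, 28, 34, 35, 40, 56, 68])
    (T := [(0, 0), (16, 1225), (32, 2450), (48, 3675), (144, 128), (144, 400), (160, 1353), (160, 1625), (176, 2578), (176, 2850), (192, 3803), (192, 4075), (208, 200), (224, 1425), (240, 2650), (256, 3875)])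
    (by decide +kernel +revert) (by decide +kernel +revert)

theorem false_of_forty_eight_ninety_six (hG : ¬ IsMulCommutative G) (hn : Nat.card G = 4896)
    (hr : Real G (17, 18, 1)) : False := by
  haveI : Fact (Nat.Prime 17) := ⟨by norm_num⟩
  exact false_of_column hG (e := 16) (t := 1) (3 : ZMod 17) hn hr (by norm_num) (by norm_num) (by norm_num)
    (by norm_num) (by decide +kernel +revert) (by decide +kernel +revert) (by decide +kernel +revert)
    (by decide +kernel +revert)
    (D := [2, 3, 4, 6, 8, 9, 12, 16, 17, 18, 24, 32, 34, 36, 48, 51, 68])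
    (T := [(0, 0), (16, 256), (16, 324), (32, 512), (32, 580), (32, 648), (48, 768), (48, 836), (48, 904), (48, 972), (64, 1024), (64, 1092), (64, 1160), (64, 1228), (64, 1296), (80, 1280), (80, 1348), (80, 1416), (80, 1484), (80, 1552), (80, 1620), (96, 1536), (96, 1604), (96, 1672), (96, 1740), (96, 1808), (96, 1876), (96, 1944), (112, 1792), (112, 1860), (112, 1928), (112, 1996), (112, 2064), (112, 2132), (112, 2200), (112, 2268), (128, 2048), (128, 2116), (128, 2184), (128, 2252), (128, 2320), (128, 2388), (128, 2456), (128, 2524), (128, 2592), (144, 2304), (144, 2372), (144, 2440), (144, 2508), (144, 2576), (144, 2644), (144, 2712), (144, 2780), (144, 2848), (144, 2916), (160, 2560), (160, 2628), (160, 2696), (160, 2764), (160, 2832), (160, 2900), (160, 2968), (160, 3036), (160, 3104), (160, 3172), (160, 3240), (176, 2816), (176, 2884), (176, 2952), (176, 3020), (176, 3088), (176, 3156), (176, 3224), (176, 3292), (176, 3360), (176, 3428), (176, 3496), (176, 3564), (192, 3072), (192, 3140), (192, 3208), (192, 3276), (192, 3344), (192, 3412), (192, 3480), (192,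 3548), (192, 3616), (192, 3684), (192, 3752), (192, 3820), (192, 3888), (208, 3328), (208, 3396), (208, 3464), (208, 3532), (208, 3600), (208, 3668), (208, 3736), (208, 3804), (208, 3872), (208, 3940), (208, 4008), (208, 4076), (208, 4144), (208, 4212), (224, 3584), (224, 3652), (224, 3720), (224, 3788), (224, 3856), (224, 3924), (224, 3992), (224, 4060), (224, 4128), (224, 4196), (224, 4264), (224, 4332), (224, 4400), (224, 4468), (224, 4536), (240, 3840), (240, 3908), (240, 3976), (240, 4044), (240, 4112), (240, 4180), (240, 4248), (240, 4316), (240, 4384), (240, 4452), (240, 4520), (240, 4588), (240, 4656), (240, 4724), (240, 4792), (240, 4860), (256, 4096), (256, 4164), (256, 4232), (256, 4300), (256, 4368), (256, 4436), (256, 4504), (256, 4572), (256, 4640), (256, 4708), (256, 4776), (256, 4844)])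
    (by decide +kernel +revert) (by decide +kernel +revert)

theorem false_of_forty_nine_sixty (hG : ¬ IsMulCommutative G) (hn : Nat.card G = 4960)
    (hr : Real G (31, 32, 1)) : False := by
  haveI : Fact (Nat.Prime 31) := ⟨by norm_num⟩
  exact false_of_column hG (e := 5) (t := 6) (3 : ZMod 31) hn hr (by norm_num) (by norm_num) (by norm_num)
    (by norm_num) (by decide +kernel +revert) (by decide +kernel +revert) (by decide +kernel +revert)
    (by decide +kernel +revert)
    (D := [2, 4, 5, 8, 10, 16, 20, 31, 32, 40, 62])
    (T := [(0, 0), (30, 1024), (60, 2048), (90, 3072), (120, 4096), (480, 512), (510, 1536), (540, 2560), (570, 3584), (600, 4608), (630, 300), (660, 1200), (660, 1324), (690, 2224), (690, 2348), (720, 3248), (720, 3372), (750, 4272), (750, 4396), (780, 150), (780, 4800), (810, 1174), (840, 2198), (870, 3222), (900, 4246)])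
    (by decide +kernel +revert) (by decide +kernel +revert)

theorem false_of_fifty_one_zero_four (hG : ¬ IsMulCommutative G) (hn : Nat.card G = 5104)
    (hr : Real G (29, 88, 1)) : False := by
  haveI : Fact (Nat.Prime 29) := ⟨by norm_num⟩
  exact false_of_column hG (e := 2) (t := 14) (2 : ZMod 29) hn hr (by norm_num) (by norm_num) (by norm_num)
    (by norm_num) (by decide +kernel +revert) (by decide +kernel +revert) (by decide +kernel +revert)
    (by decide +kernel +revert)
    (D := [2, 4, 8, 11, 16, 22, 29, 44, 58])
    (T := [(0, 0), (420, 3872), (532, 512), (700, 112), (756, 56)])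
    (by decide +kernel +revert) (by decide +kernel +revert)

end CfsgLib.SixThousand
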