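import Cfsg.Agent.SmallSimple.SixThousand.Tools
import Cfsg.Agent.S0992
import Mathlib.GroupTheory.PGroup

/-!
# The orders 3960, 4200, 4680, 5148, 5460, 5940

In each case a Sylow subgroup of prime order has a centraliser of composite order, and the fixed
points of a commuting element on the conjugates of the Sylow subgroup are counted.
-/

set_option autoImplicit false
set_option linter.style.haveILetI false
set_option linter.unusedSectionVars false
set_option linter.unusedVariables false

namespace CfsgLib.SixThousand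

open Subgroup MulAction CfsgLib.SylowCheck CfsgLib.FixedPoints CfsgLib.FiftyForty

variable {G : Type*} [Group G] [Finite G] [IsSimpleGroup G]

omit [IsSimpleGroup G] in
theorem exists_commuting {g : G} {q : ℕ} [Fact q.Prime]
    (h : q ∣ Nat.card (centralizer ({g} : Set G))) : ∃ t : G, orderOf t = q ∧ Commute t g := by
  obtain ⟨t, ht⟩ := exists_prime_orderOf_dvd_card' (G := centralizer ({g} : Set G)) q h
  exact ⟨t, (Subgroup.orderOf_coe t).trans ht, mem_centralizer_singleton_iff.1 t.2⟩

omit [IsSimpleGroup G] in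
theorem one_le_class {t : G} {H : Subgroup G} (ht : t ∈ H) :
    0 < Nat.card {y : G // IsConj t y ∧ y ∈ H} :=
  haveI : Nonempty {y : G // IsConj t y ∧ y ∈ H} := ⟨⟨t, IsConj.refl t, ht⟩⟩
  Nat.card_pos

omit [IsSimpleGroup G] in
theorem dvd_centralizer {t y : G} (h : Commute y t) : orderOf y ∣ Nat.card (centralizer ({t} : Set G)) :=
  Subgroup.orderOf_dvd_natCard _ (mem_centralizer_singleton_iff.2 h.eq)

/-- The number of fixed cosets of an involution commuting with the generator. -/
theorem involution_fix (hG : ¬ IsMulCommutative G) {p k : ℕ} [Fact p.Prime] {g t : G}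
    (hsq : ¬ p ^ 2 ∣ Nat.card G) (hg : orderOf g = p)
    (hk : Nat.card (G ⧸ normalizer ((zpowers g : Subgroup G) : Set G)) = k) (hk1 : k ≠ 1)
    (ht : orderOf t = 2) (hc : Commute t g) :
    Nat.card {c : G ⧸ normalizer ((zpowers g : Subgroup G) : Set G) // t • c = c} % p = 1 ∧
      Nat.card {c : G ⧸ normalizer ((zpowers g : Subgroup G) : Set G) // t • c = c} < k ∧
      ∃ j, k = Nat.card {c : G ⧸ normalizer ((zpowers g : Subgroup G) : Set G) // t • c = c} + 4 * j := by
  have ht2 : t ^ 2 = 1 := by rw [← ht, pow_orderOf_eq_one]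
  refine ⟨card_fixed_mod hsq hg le_rfl hc, ?_, ?_⟩
  · refine lt_of_le_of_ne (hk ▸ Finite.card_subtype_le _) fun he => ?_
    have h1 := eq_one_of_fixed (fun h => hk1 (by rw [← hk, ← index_eq_card, h, index_top])) (hk.symm ▸ he)
    rw [h1, orderOf_one] at ht
    omega
  · rw [← hk]
    exact involution_parity hG ht2 _

theorem false_of_thirty_nine_sixty (hG : ¬ IsMulCommutative G) (hn : Nat.card G = 3960)
    (hr : Real G (11, 45, 4)) : False := by
  classical
  haveI : Fact (Nat.Prime 11) := ⟨by norm_num⟩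
  haveI : Fact (Nat.Prime 2) := ⟨Nat.prime_two⟩
  obtain ⟨g, -, hsq, hg, hC, hN, hk⟩ := exists_generator hr hn (m := 88) rfl
  set N := normalizer ((zpowers g : Subgroup G) : Set G)
  set C := centralizer ({g} : Set G)
  have hCN : C ≤ N := centralizer_le g
  -- an involution of the centraliser central in a Sylow subgroup of the normaliser
  obtain ⟨S⟩ : Nonempty (Sylow 2 N) := inferInstance
  have hS : Nat.card (S : Subgroup N) = 2 ^ 3 :=
    CfsgLib.SmallSimple.card_sylow_eq S (k := 3) (m := 11) (by rw [hN]; norm_num) (by norm_num)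
  set S' := (S : Subgroup N).map N.subtype
  have hS' : Nat.card S' = 2 ^ 3 := by
    rw [← hS]
    exact (Nat.card_congr (Subgroup.equivMapOfInjective _ _ N.subtype_injective).toEquiv).symm
  have hSN : S' ≤ N := map_subtype_le _
  have hSg : S' ≤ normalizer (C : Set G) := fun a ha => by
    refine mem_normalizer_iff.2 fun b => ?_
    have key : ∀ a ∈ N, ∀ b ∈ C, a * b * a⁻¹ ∈ C := fun a ha b hb => by
      obtain ⟨j, hj⟩ := (mem_normalizer_iff''.1 ha g).1 (mem_zpowers g)
      have hb' : Commute b g := mem_centralizer_singleton_iff.1 hb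
      have hj' : g ^ j = a⁻¹ * g * a := hj
      rw [mem_centralizer_singleton_iff]
      calc a * b * a⁻¹ * g = a * (b * (a⁻¹ * g * a)) * a⁻¹ := by group
        _ = a * ((a⁻¹ * g * a) * b) * a⁻¹ := by rw [← hj', (hb'.zpow_right j).eq]
        _ = g * (a * b * a⁻¹) := by group
    refine ⟨key a (hSN ha) b, fun h => ?_⟩
    have := key a⁻¹ (N.inv_mem (hSN ha)) _ h
    simpa [mul_assoc] using this
  obtain ⟨t, htS, htC, htc, ht⟩ : ∃ t ∈ S', t ∈ C ∧ (∀ a ∈ S', Commute a t) ∧ orderOf t = 2 := by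
    have hpS : IsPGroup 2 S' := IsPGroup.of_card hS'
    set V := C.subgroupOf S'
    haveI : V.Normal := ⟨fun b hb a => by
      rw [mem_subgroupOf] at hb ⊢
      exact (mem_normalizer_iff.1 (hSg a.2) _).1 hb⟩
    -- the involution fixed under conjugation
    let A := {x : V // (x : S') ^ 2 = 1}
    letI : MulAction S' A :=
      { smul := fun a x => ⟨⟨a * (x.1 : S') * a⁻¹, ‹V.Normal›.conj_mem _ x.1.2 a⟩, by
          show (a * (x.1 : S') * a⁻¹) ^ 2 = 1
          rw [conj_pow, x.2, mul_one, mul_inv_cancel]⟩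
        one_smul := fun x => Subtype.ext (Subtype.ext (by show 1 * (x.1 : S') * 1⁻¹ = x.1; simp))
        mul_smul := fun a b x => Subtype.ext (Subtype.ext (by
          show a * b * (x.1 : S') * (a * b)⁻¹ = a * (b * (x.1 : S') * b⁻¹) * a⁻¹; group)) }
    have hV2 : 2 ∣ Nat.card A := by
      -- the product of the kernel of `N → S'` count: `C` meets `S'` nontrivially
      have hcard : 1 < Nat.card V := by
        by_contra hle
        push Not at hle
        have hbot : V = ⊥ := Subgroup.eq_bot_of_card_le _ hle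
        let f : C × S' → N := fun u => ⟨u.1 * u.2, N.mul_mem (hCN u.1.2) (hSN u.2.2)⟩
        have hf : Function.Injective f := by
          rintro ⟨a, b⟩ ⟨a', b'⟩ h
          have h' : (a : G) * b = a' * b' := congrArg Subtype.val h
          have hmem : b' * b⁻¹ ∈ V := by
            rw [mem_subgroupOf, Subgroup.coe_mul, Subgroup.coe_inv,
              show (b' : G) * (b : G)⁻¹ = (a' : G)⁻¹ * a by
                rw [eq_inv_mul_iff_mul_eq, ← mul_assoc, ← h', mul_inv_cancel_right]]
            exact C.mul_mem (C.inv_mem a'.2) a.2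
          rw [hbot, Subgroup.mem_bot, mul_inv_eq_one] at hmem
          subst hmem
          exact Prod.ext (Subtype.ext (mul_right_cancel h')) rfl
        have := Nat.card_le_card_of_injective f hf
        rw [Nat.card_prod, hS', hC, hN] at this
        omega
      obtain ⟨e, he⟩ : 2 ∣ Nat.card V := by
        obtain ⟨j, -, hj⟩ := (Nat.dvd_prime_pow Nat.prime_two).1 (hS' ▸ Subgroup.card_subgroup_dvd_card V)
        rw [hj] at hcard ⊢
        exact dvd_pow_self 2 fun h => by rw [h] at hcard; omega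
      haveI := Fintype.ofFinite V
      have hinv : ∀ x : V, ((x : S') ^ 2 = 1) ↔ x⁻¹ = x := fun x => by
        rw [inv_eq_iff_mul_eq_one, ← sq]
        exact ⟨fun h => Subtype.ext h, fun h => congrArg Subtype.val h⟩
      let σ : Equiv.Perm V := Equiv.inv V
      have hσ : σ ^ 2 ^ 1 = 1 := by
        ext x
        simp [σ, sq, Equiv.Perm.mul_apply]
      have h := Equiv.Perm.card_compl_support_modEq hσ
      have hA : Nat.card A = σ.supportᶜ.card := by
        rw [← Nat.card_eq_finsetCard]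
        refine Nat.card_congr (Equiv.subtypeEquivRight fun x => ?_)
        simp only [Finset.mem_compl, Equiv.Perm.mem_support, not_not]
        exact hinv x
      rw [hA, Nat.dvd_iff_mod_eq_zero, h, ← Nat.card_eq_fintype_card, he]
      omega
    obtain ⟨x, hx, hne⟩ := hpS.exists_fixed_point_of_prime_dvd_card_of_fixed_point A hV2
      (a := (⟨1, by simp⟩ : A)) (fun a => Subtype.ext (Subtype.ext (by
        show a * ((1 : V) : S') * a⁻¹ = ((1 : V) : S')
        simp)))
    refine ⟨(x.1 : S'), (x.1 : S').2, mem_subgroupOf.1 x.1.2, fun a ha => ?_, ?_⟩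
    · have h := hx ⟨a, ha⟩
      have h' : a * ((x.1 : S') : G) * a⁻¹ = ((x.1 : S') : G) :=
        congrArg Subtype.val (congrArg Subtype.val (congrArg Subtype.val h))
      exact mul_inv_eq_iff_eq_mul.1 h'
    · rw [Subgroup.orderOf_coe]
      exact orderOf_eq_prime x.2 fun h => hne (Subtype.ext (Subtype.ext h.symm))
  have hgt : Commute t g := mem_centralizer_singleton_iff.1 htC
  obtain ⟨h1, h2, j, h4⟩ := involution_fix hG hsq hg hk (by norm_num) ht hgt
  rw [show normalizer ((zpowers g : Subgroup G) : Set G) = N from rfl] at h1 h2 h4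
  have hF : Nat.card {c : G ⧸ N // t • c = c} = 1 := by omega
  have hcount := fixed_mul_card t N
  rw [hF, hN, one_mul] at hcount
  have hd8 : 8 ∣ Nat.card (centralizer ({t} : Set G)) := by
    have h := Subgroup.card_dvd_of_le (fun a ha => mem_centralizer_singleton_iff.2 (htc a ha).eq :
      S' ≤ centralizer ({t} : Set G))
    rw [hS'] at h
    exact h
  have hd11 : 11 ∣ Nat.card (centralizer ({t} : Set G)) := hg ▸ dvd_centralizer hgt.symm
  have hm := one_le_class (hCN htC)
  have hone : Nat.card {y : G // IsConj t y ∧ y ∈ N} = 1 := by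
    have h88 : 88 ∣ Nat.card (centralizer ({t} : Set G)) := by
      have := Nat.Coprime.mul_dvd_of_dvd_of_dvd (by norm_num : Nat.Coprime 8 11) hd8 hd11
      simpa using this
    have hle : 88 ≤ Nat.card (centralizer ({t} : Set G)) := Nat.le_of_dvd Nat.card_pos h88
    have := Nat.mul_le_mul_left (Nat.card {y : G // IsConj t y ∧ y ∈ N}) hle
    omega
  obtain ⟨P, hP⟩ := (IsPGroup.of_card hS').exists_le_sylow
  have hPS : (P : Subgroup G) = S' := (eq_of_le_of_card_ge hP (by
    rw [hS', CfsgLib.SmallSimple.card_sylow_eq P (k := 3) (m := 495) (by rw [hn]; norm_num) (by norm_num)])).symm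
  refine false_of_isolated hG P ht fun a ha => ?_
  have haN : a * t * a⁻¹ ∈ N := hSN (hPS ▸ ha)
  haveI : Subsingleton {y : G // IsConj t y ∧ y ∈ N} := (Nat.card_eq_one_iff_unique.1 hone).1
  exact congrArg Subtype.val (Subsingleton.elim
    (⟨_, isConj_iff.2 ⟨a, rfl⟩, haN⟩ : {y : G // IsConj t y ∧ y ∈ N}) ⟨t, IsConj.refl t, hCN htC⟩)

theorem false_of_forty_two_hundred (hG : ¬ IsMulCommutative G) (hn : Nat.card G = 4200) {c : ℕ}
    (hc2 : 2 ∣ c) (hc4 : c ≤ 4) (hr : Real G (7, 50, c)) : False := by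
  classical
  haveI : Fact (Nat.Prime 7) := ⟨by norm_num⟩
  haveI : Fact (Nat.Prime 2) := ⟨Nat.prime_two⟩
  obtain ⟨g, -, hsq, hg, hC, hN, hk⟩ := exists_generator hr hn (m := 84) rfl
  obtain ⟨t, ht, hgt⟩ := exists_commuting (g := g) (q := 2) (hC ▸ Dvd.dvd.mul_left hc2 _)
  set N := normalizer ((zpowers g : Subgroup G) : Set G)
  set C := centralizer ({g} : Set G)
  have hCN : C ≤ N := centralizer_le g
  have htN : t ∈ N := hCN (mem_centralizer_singleton_iff.2 hgt.eq)
  obtain ⟨h1, h2, j, h4⟩ := involution_fix hG hsq hg hk (by norm_num) ht hgt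
  rw [show normalizer ((zpowers g : Subgroup G) : Set G) = N from rfl] at h1 h2 h4
  have hF : Nat.card {c : G ⧸ N // t • c = c} = 22 := by omega
  have hcount := fixed_mul_card t N
  rw [hF, hN] at hcount
  have hdvd : Nat.card (centralizer ({t} : Set G)) ∣ 4200 := hn ▸ Subgroup.card_subgroup_dvd_card _
  -- every conjugate in the normaliser commutes with the generator
  have hcomm : ∀ y : G, IsConj t y → y ∈ N → Commute y g := by
    intro y hy hyN
    have hy2 : y * y = 1 := by
      obtain ⟨a, rfl⟩ := isConj_iff.1 hy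
      have ht2 : t * t = 1 := by rw [← sq, ← ht, pow_orderOf_eq_one]
      rw [show a * t * a⁻¹ * (a * t * a⁻¹) = a * (t * t) * a⁻¹ by group, ht2, mul_one, mul_inv_cancel]
    obtain ⟨i, hi⟩ : y * g * y⁻¹ ∈ zpowers g := (mem_normalizer_iff.1 hyN g).1 (mem_zpowers g)
    have hi' : g ^ i = y * g * y⁻¹ := hi
    have hii : g ^ (i * i) = g := by
      rw [zpow_mul, hi', conj_zpow, hi', show y * (y * g * y⁻¹) * y⁻¹ = (y * y) * g * (y * y)⁻¹ by group, hy2,
        one_mul, inv_one, mul_one]
    rw [← zpow_mod_orderOf, hg] at hii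
    have hi7 : (i * i) % 7 = 1 := by
      have h1 : g ^ (((i * i) % (7 : ℕ)).toNat) = g ^ 1 := by
        rw [pow_one, ← zpow_natCast, Int.toNat_of_nonneg (Int.emod_nonneg _ (by norm_num))]
        exact hii
      rw [pow_inj_mod, hg] at h1
      have := Int.emod_lt_of_pos (i * i) (show (0 : ℤ) < 7 by norm_num)
      have := Int.emod_nonneg (i * i) (show (7 : ℤ) ≠ 0 by norm_num)
      push_cast at h1
      omega
    have hcases : i % 7 = 1 ∨ i % 7 = 6 := by
      have := Int.emod_lt_of_pos i (show (0 : ℤ) < 7 by norm_num)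
      have := Int.emod_nonneg i (show (7 : ℤ) ≠ 0 by norm_num)
      rw [Int.mul_emod] at hi7
      generalize i % 7 = r at *
      interval_cases r <;> simp_all
    rw [← zpow_mod_orderOf, hg] at hi'
    push_cast at hi'
    rcases hcases with h | h
    · rw [h, zpow_one] at hi'
      exact mul_inv_eq_iff_eq_mul.1 hi'.symm
    · exfalso
      rw [h] at hi'
      have hinv : y * g * y⁻¹ = g⁻¹ := by
        rw [← hi', eq_inv_iff_mul_eq_one, ← zpow_add_one, show (6 : ℤ) + 1 = ((7 : ℕ) : ℤ) by norm_num,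
          zpow_natCast, ← hg, pow_orderOf_eq_one]
      have hb := card_fixed_inverting (by norm_num) hsq hg le_rfl hinv (y := y) (by
        rw [Quotient.smul_coe, QuotientGroup.eq, smul_eq_mul, mul_one, mul_one, N.inv_mem_iff]
        exact hyN)
      rw [← card_fixed_of_isConj hy N, hF, hk] at hb
      omega
  have hm : Nat.card {y : G // IsConj t y ∧ y ∈ N} ≤ c := by
    set P₀ := (zpowers g).subgroupOf C
    have hgC : zpowers g ≤ C := zpowers_le.2 (mem_centralizer_singleton_iff.2 rfl)
    have hP₀ : Nat.card (C ⧸ P₀) = c := by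
      have h := P₀.card_eq_card_quotient_mul_card_subgroup
      rw [Nat.card_congr (subgroupOfEquivOfLe hgC).toEquiv, Nat.card_zpowers, hg, hC, mul_comm 7 c] at h
      omega
    rw [← hP₀]
    refine Nat.card_le_card_of_injective
      (fun y => ((⟨y.1, mem_centralizer_singleton_iff.2 (hcomm _ y.2.1 y.2.2).eq⟩ : C) : C ⧸ P₀))
      fun y y' h => ?_
    rw [QuotientGroup.eq, mem_subgroupOf] at h
    obtain ⟨i, hi⟩ := h
    have hi' : g ^ i = (y : G)⁻¹ * y' := hi
    have hsq' : ∀ z : {y : G // IsConj t y ∧ y ∈ N}, (z : G) * z = 1 := fun z => by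
      obtain ⟨a, ha⟩ := isConj_iff.1 z.2.1
      have ht2 : t * t = 1 := by rw [← sq, ← ht, pow_orderOf_eq_one]
      rw [← ha, show a * t * a⁻¹ * (a * t * a⁻¹) = a * (t * t) * a⁻¹ by group, ht2, mul_one, mul_inv_cancel]
    have hy' : (y' : G) = y * g ^ i := by rw [hi', mul_inv_cancel_left]
    have hgi : g ^ (2 * i) = 1 := by
      have h1 := hsq' y'
      rw [hy'] at h1
      have hcy : Commute (y : G) (g ^ i) := (hcomm _ y.2.1 y.2.2).zpow_right i
      calc g ^ (2 * i) = ((y : G) * y) * (g ^ i * g ^ i) := by rw [hsq' y, one_mul, ← zpow_add, two_mul]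
        _ = (y : G) * ((y : G) * g ^ i) * g ^ i := by group
        _ = (y : G) * (g ^ i * y) * g ^ i := by rw [hcy.eq]
        _ = (y : G) * g ^ i * ((y : G) * g ^ i) := by group
        _ = 1 := h1
    have hgi' : g ^ i = 1 := by
      rw [← orderOf_dvd_iff_zpow_eq_one, hg] at hgi ⊢
      omega
    refine Subtype.ext ?_
    rw [hy', hgi', mul_one]
  have hm0 := one_le_class htN
  -- `1848 = m |C(t)|`
  have h11 : 11 ∣ Nat.card {y : G // IsConj t y ∧ y ∈ N} := by
    rcases (Nat.Prime.dvd_mul (by norm_num : Nat.Prime 11)).1 (Dvd.intro_left 168 (by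
      rw [← hcount]; norm_num) : 11 ∣ Nat.card {y : G // IsConj t y ∧ y ∈ N} * Nat.card (centralizer ({t} : Set G))) with h | h
    · exact h
    · exact absurd (h.trans hdvd) (by norm_num)
  have := Nat.le_of_dvd hm0 h11
  omega

theorem false_of_forty_six_eighty (hG : ¬ IsMulCommutative G) (hn : Nat.card G = 4680)
    (hr : Real G (13, 40, 3)) : False := by
  classical
  haveI : Fact (Nat.Prime 13) := ⟨by norm_num⟩
  haveI : Fact (Nat.Prime 3) := ⟨by norm_num⟩
  obtain ⟨g, -, hsq, hg, hC, hN, hk⟩ := exists_generator hr hn (m := 117) rfl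
  obtain ⟨r, hr3, hgr⟩ := exists_commuting (g := g) (q := 3) (hC ▸ dvd_mul_left 3 13)
  set N := normalizer ((zpowers g : Subgroup G) : Set G)
  have hrN : r ∈ N := centralizer_le g (mem_centralizer_singleton_iff.2 hgr.eq)
  have hr3' : r ^ 3 = 1 := by rw [← hr3, pow_orderOf_eq_one]
  set F := Nat.card {c : G ⧸ N // r • c = c} with hFdef
  have h1 : F % 13 = 1 := card_fixed_mod hsq hg le_rfl hgr
  have h2 : F % 3 = 40 % 3 := hk ▸ card_fixed_modEq hr3' _
  have h3 : F < 40 := by
    refine lt_of_le_of_ne (hk ▸ Finite.card_subtype_le _) fun he => ?_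
    have h := eq_one_of_fixed (fun h => by rw [← index_eq_card, h, index_top] at hk; omega) (hk.symm ▸ he)
    rw [h, orderOf_one] at hr3
    omega
  have hF : F = 1 := by omega
  have hCle := centralizer_le_of_fixed_one hrN hF
  obtain ⟨R, hR⟩ := (IsPGroup.of_card (n := 1) (G := zpowers r) (p := 3) (by rw [Nat.card_zpowers, hr3, pow_one])).exists_le_sylow
  have hRc : Nat.card (R : Subgroup G) = 3 ^ 2 :=
    CfsgLib.SmallSimple.card_sylow_eq R (k := 2) (m := 520) (by rw [hn]; norm_num) (by norm_num)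
  have hab : ∀ a ∈ (R : Subgroup G), ∀ b ∈ (R : Subgroup G), a * b = b * a := fun a ha b hb =>
    congrArg Subtype.val ((IsPGroup.isMulCommutative_of_card_eq_prime_sq hRc).is_comm.comm (⟨a, ha⟩ : (R : Subgroup G)) ⟨b, hb⟩)
  have hrR : r ∈ (R : Subgroup G) := hR (mem_zpowers r)
  have hRle : (R : Subgroup G) ≤ centralizer ({r} : Set G) := fun a ha =>
    mem_centralizer_singleton_iff.2 (hab a ha r hrR)
  have hd9 : 9 ∣ Nat.card (centralizer ({r} : Set G)) := by
    have h := card_dvd_of_le hRle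
    rwa [hRc] at h
  have hd13 : 13 ∣ Nat.card (centralizer ({r} : Set G)) := hg ▸ dvd_centralizer hgr.symm
  have hcount := fixed_mul_card r N
  rw [← hFdef, hF, hN, one_mul] at hcount
  have hone : Nat.card {y : G // IsConj r y ∧ y ∈ N} = 1 := by
    have h117 := Nat.le_of_dvd Nat.card_pos
      (Nat.Coprime.mul_dvd_of_dvd_of_dvd (by norm_num : Nat.Coprime 9 13) hd9 hd13)
    have := one_le_class hrN
    have := Nat.mul_le_mul_left (Nat.card {y : G // IsConj r y ∧ y ∈ N}) h117
    omega
  haveI : Subsingleton {y : G // IsConj r y ∧ y ∈ N} := (Nat.card_eq_one_iff_unique.1 hone).1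
  have huniq : ∀ a : G, a⁻¹ * r * a ∈ (R : Subgroup G) → a⁻¹ * r * a = r := fun a ha =>
    congrArg Subtype.val (Subsingleton.elim
      (⟨_, isConj_iff.2 ⟨a⁻¹, by rw [inv_inv]⟩, hCle (hRle ha)⟩ : {y : G // IsConj r y ∧ y ∈ N}) ⟨r, IsConj.refl r, hrN⟩)
  have h := pow_index_eq_one hG (R : Subgroup G) hab r fun k a hka => by
    rcases (by omega : k % 3 = 0 ∨ k % 3 = 1 ∨ k % 3 = 2) with h | h | h
    · rw [← pow_mod_orderOf, hr3, h, pow_zero, mul_one, inv_mul_cancel]
    · rw [← pow_mod_orderOf, hr3, h, pow_one] at hka ⊢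
      exact huniq a hka
    · rw [← pow_mod_orderOf, hr3, h] at hka ⊢
      have he : a⁻¹ * r ^ 2 * a = (a⁻¹ * r * a)⁻¹ := by
        rw [eq_inv_iff_mul_eq_one, show a⁻¹ * r ^ 2 * a * (a⁻¹ * r * a) = a⁻¹ * r ^ 3 * a by group, hr3', mul_one,
          inv_mul_cancel]
      rw [he, inv_mem_iff] at hka
      rw [he, huniq a hka, eq_comm, eq_inv_iff_mul_eq_one, ← pow_succ, hr3']
  have hidx : (R : Subgroup G).index = 520 := by
    have h := (R : Subgroup G).card_mul_index
    rw [hRc, hn] at h
    omega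
  rw [hidx, ← pow_mod_orderOf, hr3, show 520 % 3 = 1 from rfl, pow_one] at h
  rw [h, orderOf_one] at hr3
  omega

theorem false_of_fifty_one_forty_eight (hG : ¬ IsMulCommutative G) (hn : Nat.card G = 5148)
    (hr : Real G (11, 78, 3)) : False := by
  classical
  haveI : Fact (Nat.Prime 11) := ⟨by norm_num⟩
  haveI : Fact (Nat.Prime 3) := ⟨by norm_num⟩
  obtain ⟨g, -, hsq, hg, hC, hN, hk⟩ := exists_generator hr hn (m := 66) rfl
  obtain ⟨r, hr3, hgr⟩ := exists_commuting (g := g) (q := 3) (hC ▸ dvd_mul_left 3 11)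
  set N := normalizer ((zpowers g : Subgroup G) : Set G)
  set C := centralizer ({g} : Set G)
  have hCN : C ≤ N := centralizer_le g
  have hrN : r ∈ N := hCN (mem_centralizer_singleton_iff.2 hgr.eq)
  have hr3' : r ^ 3 = 1 := by rw [← hr3, pow_orderOf_eq_one]
  have hg' : g ^ 11 = 1 := by rw [← hg, pow_orderOf_eq_one]
  set F := Nat.card {c : G ⧸ N // r • c = c} with hFdef
  have h1 : F % 11 = 1 := card_fixed_mod hsq hg le_rfl hgr
  have h2 : F % 3 = 78 % 3 := hk ▸ card_fixed_modEq hr3' _
  have h3 : F < 78 := by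
    refine lt_of_le_of_ne (hk ▸ Finite.card_subtype_le _) fun he => ?_
    have h := eq_one_of_fixed (fun h => by rw [← index_eq_card, h, index_top] at hk; omega) (hk.symm ▸ he)
    rw [h, orderOf_one] at hr3
    omega
  have hF : F = 12 ∨ F = 45 := by omega
  obtain ⟨R, hR⟩ := (IsPGroup.of_card (n := 1) (G := zpowers r) (p := 3) (by rw [Nat.card_zpowers, hr3, pow_one])).exists_le_sylow
  have hRc : Nat.card (R : Subgroup G) = 3 ^ 2 :=
    CfsgLib.SmallSimple.card_sylow_eq R (k := 2) (m := 572) (by rw [hn]; norm_num) (by norm_num)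
  have hRle : (R : Subgroup G) ≤ centralizer ({r} : Set G) := fun a ha =>
    mem_centralizer_singleton_iff.2 (congrArg Subtype.val
      ((IsPGroup.isMulCommutative_of_card_eq_prime_sq hRc).is_comm.comm (⟨a, ha⟩ : (R : Subgroup G))
        ⟨r, hR (mem_zpowers r)⟩))
  have hd9 : 9 ∣ Nat.card (centralizer ({r} : Set G)) := by
    have h := card_dvd_of_le hRle
    rwa [hRc] at h
  have hd11 : 11 ∣ Nat.card (centralizer ({r} : Set G)) := hg ▸ dvd_centralizer hgr.symm
  obtain ⟨j, hj⟩ : 99 ∣ Nat.card (centralizer ({r} : Set G)) :=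
    (Nat.Coprime.mul_dvd_of_dvd_of_dvd (by norm_num : Nat.Coprime 9 11) hd9 hd11)
  have hdvd : Nat.card (centralizer ({r} : Set G)) ∣ 5148 := hn ▸ Subgroup.card_subgroup_dvd_card _
  have hjd : j ∣ 52 := by
    rw [hj, show 5148 = 99 * 52 from rfl] at hdvd
    exact (Nat.mul_dvd_mul_iff_left (by norm_num)).1 hdvd
  have hm0 := one_le_class hrN
  have hm3 : Nat.card {y : G // IsConj r y ∧ y ∈ N} ≤ 3 := by
    have hord : ∀ y : {y : G // IsConj r y ∧ y ∈ N}, orderOf (y : G) = 3 := fun y => by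
      obtain ⟨a, ha⟩ := isConj_iff.1 y.2.1
      rw [← ha, ← hr3]
      exact (MulAut.conj a).orderOf_eq r
    have hcomm : ∀ y : {y : G // IsConj r y ∧ y ∈ N}, (y : G) ∈ C := fun y => by
      obtain ⟨i, hi⟩ : (y : G) * g * (y : G)⁻¹ ∈ zpowers g := (mem_normalizer_iff.1 y.2.2 g).1 (mem_zpowers g)
      have hi' : g ^ i = (y : G) * g * (y : G)⁻¹ := hi
      have hy3 : (y : G) ^ 3 = 1 := by rw [← hord y, pow_orderOf_eq_one]
      have hii : g ^ (i * i * i) = g := by
        rw [zpow_mul, zpow_mul, hi', conj_zpow, hi', conj_zpow, conj_zpow, hi',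
          show (y : G) * ((y : G) * ((y : G) * g * (y : G)⁻¹) * (y : G)⁻¹) * (y : G)⁻¹ =
            (y : G) ^ 3 * g * ((y : G) ^ 3)⁻¹ by simp only [pow_succ, pow_zero, one_mul, mul_inv_rev, mul_assoc],
          hy3, one_mul, inv_one, mul_one]
      have h11 : (i * i * i) % 11 = 1 := by
        have h := sub_eq_zero.2 (rfl : (1 : ℤ) = 1)
        have h' : g ^ (i * i * i - 1) = 1 := by rw [zpow_sub, zpow_one, hii, mul_inv_cancel]
        rw [← orderOf_dvd_iff_zpow_eq_one, hg] at h'
        omega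
      have hi1 : i % 11 = 1 := by
        have := Int.emod_lt_of_pos i (show (0 : ℤ) < 11 by norm_num)
        have := Int.emod_nonneg i (show (11 : ℤ) ≠ 0 by norm_num)
        rw [Int.mul_emod, Int.mul_emod i i] at h11
        generalize i % 11 = s at *
        interval_cases s <;> simp_all
      rw [← zpow_mod_orderOf, hg] at hi'
      push_cast at hi'
      rw [hi1, zpow_one] at hi'
      exact mem_centralizer_singleton_iff.2 (mul_inv_eq_iff_eq_mul.1 hi'.symm)
    set P₀ := (zpowers g).subgroupOf C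
    have hgC : zpowers g ≤ C := zpowers_le.2 (mem_centralizer_singleton_iff.2 rfl)
    have hP₀ : Nat.card (C ⧸ P₀) = 3 := by
      have h := P₀.card_eq_card_quotient_mul_card_subgroup
      rw [Nat.card_congr (subgroupOfEquivOfLe hgC).toEquiv, Nat.card_zpowers, hg, hC] at h
      omega
    rw [← hP₀]
    refine Nat.card_le_card_of_injective (fun y => ((⟨y.1, hcomm y⟩ : C) : C ⧸ P₀)) fun y y' h => ?_
    rw [QuotientGroup.eq, mem_subgroupOf] at h
    obtain ⟨i, hi⟩ := h
    have hi' : g ^ i = (y : G)⁻¹ * y' := hi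
    have hy' : (y' : G) = y * g ^ i := by rw [hi', mul_inv_cancel_left]
    have hcy : Commute (y : G) (g ^ i) :=
      (show Commute (y : G) g from mem_centralizer_singleton_iff.1 (hcomm y)).zpow_right i
    have h3 : (y' : G) ^ 3 = 1 := by rw [← hord y', pow_orderOf_eq_one]
    rw [hy', hcy.mul_pow, show (y : G) ^ 3 = 1 by rw [← hord y, pow_orderOf_eq_one], one_mul,
      ← zpow_natCast, ← zpow_mul, ← orderOf_dvd_iff_zpow_eq_one, hg] at h3
    have h0 : g ^ i = 1 := by
      rw [← orderOf_dvd_iff_zpow_eq_one, hg]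
      push_cast at h3 ⊢
      omega
    exact Subtype.ext (by rw [hy', h0, mul_one])
  have hcount := fixed_mul_card r N
  rw [← hFdef, hN, hj] at hcount
  have hjle : j ≤ 52 := Nat.le_of_dvd (by norm_num) hjd
  have hj4 : j = 4 := by
    set m := Nat.card {y : G // IsConj r y ∧ y ∈ N}
    rcases hF with hF | hF <;> rw [hF] at hcount <;> interval_cases m <;>
      interval_cases j <;> omega
  -- the centraliser has index thirteen
  subst hj4
  set H := centralizer ({r} : Set G)
  have hH : Nat.card (G ⧸ H) = 13 := by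
    have h := H.card_eq_card_quotient_mul_card_subgroup
    rw [hn, hj] at h
    omega
  have hHt : H ≠ ⊤ := fun h => by
    rw [← index_eq_card, h, index_top] at hH
    omega
  have hgH : g ∈ H := mem_centralizer_singleton_iff.2 hgr.symm.eq
  have hrH : r ∈ H := mem_centralizer_singleton_iff.2 rfl
  set F₁ := Nat.card {c : G ⧸ H // g • c = c} with hF₁def
  set F₂ := Nat.card {c : G ⧸ H // r • c = c} with hF₂def
  set F₁₂ := Nat.card {c : G ⧸ H // g • c = c ∧ r • c = c}
  have hg13 : F₁ = 2 := by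
    have a := card_fixed_modEq hg' (G ⧸ H)
    have b : F₁ ≤ Nat.card (G ⧸ H) := Finite.card_subtype_le _
    have c : F₁ ≠ 13 := fun he => by
      have h := eq_one_of_fixed hHt (hH.symm ▸ he)
      rw [h, orderOf_one] at hg
      omega
    omega
  have hb : g • ((1 : G) : G ⧸ H) = ((1 : G) : G ⧸ H) ∧ r • ((1 : G) : G ⧸ H) = ((1 : G) : G ⧸ H) := by
    constructor <;>
    · rw [Quotient.smul_coe, QuotientGroup.eq, smul_eq_mul, mul_one, mul_one, H.inv_mem_iff]
      assumption
  have h12 : F₁₂ = 2 := by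
    have a := card_fixed_commute hgr.symm hr3' (G ⧸ H)
    have b : F₁₂ ≤ F₁ := Nat.card_le_card_of_injective (fun c => ⟨c.1, c.2.1⟩)
      fun c d h => Subtype.ext (congrArg (fun x : {c : G ⧸ H // g • c = c} => x.1) h)
    haveI : Nonempty {c : G ⧸ H // g • c = c ∧ r • c = c} := ⟨⟨_, hb⟩⟩
    have c : 0 < F₁₂ := Nat.card_pos
    rw [← hF₁def, hg13] at a
    omega
  have a := card_fixed_commute hgr hg' (G ⧸ H)
  rw [show Nat.card {c : G ⧸ H // r • c = c ∧ g • c = c} = F₁₂ from
    Nat.card_congr (Equiv.subtypeEquivRight fun c => and_comm), ← hF₂def, h12] at a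
  have b : F₂ % 3 = 13 % 3 := hH ▸ card_fixed_modEq hr3' _
  have c : F₂ ≤ Nat.card (G ⧸ H) := Finite.card_subtype_le _
  have h := eq_one_of_fixed hHt (show F₂ = Nat.card (G ⧸ H) by omega)
  rw [h, orderOf_one] at hr3
  omega

theorem roots_five [Fact (Nat.Prime 13)] :
    (Finset.univ.filter fun r : ZMod 13 => r ^ 4 = 1).card = 4 ∧ (5 : ZMod 13) ^ 4 = 1 := by
  constructor <;> decide +kernel +revert

theorem five_pows : ((5 : ZMod 13) ^ 1).val = 5 ∧ ((5 : ZMod 13) ^ 2).val = 12 ∧ ((5 : ZMod 13) ^ 3).val = 8 := by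
  decide +kernel

theorem false_of_fifty_four_sixty (hG : ¬ IsMulCommutative G) (hn : Nat.card G = 5460)
    (hr : Real G (13, 105, 1)) : False := by
  haveI : Fact (Nat.Prime 13) := ⟨by norm_num⟩
  haveI : Fact (Nat.Prime 2) := ⟨Nat.prime_two⟩
  obtain ⟨g, -, -, hg, hC, hN, -⟩ := exists_generator hr hn (m := 52) rfl
  obtain ⟨h, hh⟩ := exists_conj_pow (e := 4) (r := (5 : ZMod 13)) hg hC hN (roots_five).1 (roots_five).2
  have hpow : ∀ m : ℕ, h ^ m * g * (h ^ m)⁻¹ = g ^ ((5 : ZMod 13) ^ m).val := by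
    intro m
    induction m with
    | zero => simp [ZMod.val_one]
    | succ m ih =>
      rw [pow_succ', pow_succ (5 : ZMod 13), mul_inv_rev]
      calc h * h ^ m * g * ((h ^ m)⁻¹ * h⁻¹) = h * (h ^ m * g * (h ^ m)⁻¹) * h⁻¹ := by group
        _ = (h * g * h⁻¹) ^ ((5 : ZMod 13) ^ m).val := by rw [ih, conj_pow]
        _ = _ := by rw [hh, mul_comm ((5 : ZMod 13) ^ m), CfsgLib.ColumnData.pow_val_mul hg]
  have h5 : ((5 : ZMod 13) ^ orderOf h).val = 1 := by
    have h1 := hpow (orderOf h)
    rw [pow_orderOf_eq_one, one_mul, inv_one, mul_one] at h1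
    have h2 : g ^ 1 = g ^ ((5 : ZMod 13) ^ orderOf h).val := by rw [pow_one]; exact h1
    rw [pow_inj_mod, hg, Nat.mod_eq_of_lt (ZMod.val_lt _)] at h2
    exact h2.symm
  have h4 : 4 ∣ orderOf h := by
    rw [← Nat.div_add_mod (orderOf h) 4, pow_add, pow_mul, roots_five.2,
      one_pow, one_mul] at h5
    have := Nat.mod_lt (orderOf h) (show 4 > 0 by norm_num)
    rw [Nat.dvd_iff_mod_eq_zero]
    generalize orderOf h % 4 = r at *
    interval_cases r
    · rfl
    · rw [five_pows.1] at h5; omega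
    · rw [five_pows.2.1] at h5; omega
    · rw [five_pows.2.2] at h5; omega
  obtain ⟨d, hd⟩ := h4
  have hd0 : d ≠ 0 := fun h0 => (orderOf_pos h).ne' (by rw [hd, h0])
  have hu : orderOf (h ^ d) = 4 := by
    rw [orderOf_pow' _ hd0, hd, Nat.gcd_eq_right (dvd_mul_left d 4), Nat.mul_div_cancel _ (Nat.pos_of_ne_zero hd0)]
  obtain ⟨T, hT⟩ := (IsPGroup.of_card (n := 2) (G := zpowers (h ^ d)) (p := 2)
    (by rw [Nat.card_zpowers, hu]; norm_num)).exists_le_sylow
  have hK := (Cfsg.Agent.S0992.result hG (by rw [hn]; decide) (by rw [hn]; decide) T).1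
  have h2 : orderOf (⟨h ^ d, hT (mem_zpowers _)⟩ : (T : Subgroup G)) ∣ 2 := (Monoid.order_dvd_exponent _).trans (dvd_of_eq hK.exponent_two)
  rw [Subgroup.orderOf_mk, hu] at h2
  omega

theorem false_of_fifty_nine_forty (hG : ¬ IsMulCommutative G) (hn : Nat.card G = 5940)
    (hr : Real G (11, 45, 6)) : False := by
  classical
  haveI : Fact (Nat.Prime 11) := ⟨by norm_num⟩
  haveI : Fact (Nat.Prime 2) := ⟨Nat.prime_two⟩
  obtain ⟨g, -, hsq, hg, hC, hN, hk⟩ := exists_generator hr hn (m := 132) rfl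
  obtain ⟨t, ht, hgt⟩ := exists_commuting (g := g) (q := 2) (hC ▸ Dvd.intro 33 rfl)
  set N := normalizer ((zpowers g : Subgroup G) : Set G)
  set C := centralizer ({g} : Set G)
  have htC : t ∈ C := mem_centralizer_singleton_iff.2 hgt.eq
  have htN : t ∈ N := centralizer_le g htC
  obtain ⟨h1, h2, j, h4⟩ := involution_fix hG hsq hg hk (by norm_num) ht hgt
  rw [show normalizer ((zpowers g : Subgroup G) : Set G) = N from rfl] at h1 h2 h4
  have hF : Nat.card {c : G ⧸ N // t • c = c} = 1 := by omega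
  have hcount := fixed_mul_card t N
  rw [hF, hN, one_mul] at hcount
  -- a Sylow subgroup inside the normaliser containing the involution
  obtain ⟨S, hS⟩ := (IsPGroup.of_card (n := 1) (G := zpowers (⟨t, htN⟩ : N)) (p := 2)
    (by rw [Nat.card_zpowers, Subgroup.orderOf_mk, ht, pow_one])).exists_le_sylow
  have hSc : Nat.card (S : Subgroup N) = 2 ^ 2 :=
    CfsgLib.SmallSimple.card_sylow_eq S (k := 2) (m := 33) (by rw [hN]; norm_num) (by norm_num)
  set S' := (S : Subgroup N).map N.subtype
  have hS' : Nat.card S' = 2 ^ 2 := by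
    rw [← hSc]
    exact (Nat.card_congr (Subgroup.equivMapOfInjective _ _ N.subtype_injective).toEquiv).symm
  have hSN : S' ≤ N := map_subtype_le _
  have htS : t ∈ S' := ⟨⟨t, htN⟩, hS (mem_zpowers _), rfl⟩
  have hSt : S' ≤ centralizer ({t} : Set G) := fun a ha => mem_centralizer_singleton_iff.2
    (congrArg Subtype.val ((IsPGroup.isMulCommutative_of_card_eq_prime_sq hS').is_comm.comm (⟨a, ha⟩ : S') ⟨t, htS⟩))
  have hd4 : 4 ∣ Nat.card (centralizer ({t} : Set G)) := by
    have h := card_dvd_of_le hSt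
    rwa [hS'] at h
  have hd11 : 11 ∣ Nat.card (centralizer ({t} : Set G)) := hg ▸ dvd_centralizer hgt.symm
  have hm3 : Nat.card {y : G // IsConj t y ∧ y ∈ N} ≤ 3 := by
    have h44 := Nat.le_of_dvd Nat.card_pos
      (Nat.Coprime.mul_dvd_of_dvd_of_dvd (by norm_num : Nat.Coprime 4 11) hd4 hd11)
    have := Nat.mul_le_mul_left (Nat.card {y : G // IsConj t y ∧ y ∈ N}) h44
    omega
  obtain ⟨P, hP⟩ := (IsPGroup.of_card hS').exists_le_sylow
  have hPS : (P : Subgroup G) = S' := (eq_of_le_of_card_ge hP (by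
    rw [hS', CfsgLib.SmallSimple.card_sylow_eq P (k := 2) (m := 1485) (by rw [hn]; norm_num) (by norm_num)])).symm
  refine false_of_isolated hG P ht fun a ha => by_contra fun hne => ?_
  set u := a * t * a⁻¹ with hu
  have huS : u ∈ S' := hPS ▸ ha
  have hu2 : orderOf u = 2 := by
    rw [hu, ← ht]
    exact (MulAut.conj a).orderOf_eq t
  by_cases huC : u ∈ C
  · -- then the centraliser has order divisible by four
    have hle : S' ⊓ C = zpowers t := by
      refine (eq_of_le_of_card_ge (zpowers_le.2 (mem_inf.2 ⟨htS, htC⟩)) ?_).symm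
      have ha : Nat.card (S' ⊓ C : Subgroup G) ∣ 4 := by
        have h := card_dvd_of_le (inf_le_left : S' ⊓ C ≤ S')
        rwa [hS'] at h
      have hb : Nat.card (S' ⊓ C : Subgroup G) ∣ 11 * 6 := hC ▸ card_dvd_of_le inf_le_right
      have := Nat.dvd_gcd ha hb
      rw [Nat.card_zpowers, ht]
      exact Nat.le_of_dvd (by norm_num) (this.trans (dvd_of_eq (by decide)))
    have hm : u ∈ zpowers t := hle ▸ mem_inf.2 ⟨huS, huC⟩
    obtain ⟨i, hi⟩ := hm
    have hi' : t ^ i = u := hi
    rw [← zpow_mod_orderOf, ht] at hi'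
    rcases Int.emod_two_eq_zero_or_one i with h | h <;> push_cast at hi' <;> rw [h] at hi'
    · rw [zpow_zero] at hi'
      rw [← hi', orderOf_one] at hu2
      omega
    · rw [zpow_one] at hi'
      exact hne hi'.symm
  · -- then the class meets the normaliser in eleven elements
    let f : Fin 11 → {y : G // IsConj t y ∧ y ∈ N} := fun i =>
      ⟨g ^ (i : ℕ) * u * (g ^ (i : ℕ))⁻¹, isConj_iff.2 ⟨g ^ (i : ℕ) * a, by rw [hu]; group⟩,
        N.mul_mem (N.mul_mem (pow_mem (le_normalizer (mem_zpowers g)) _) (hSN huS))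
          (N.inv_mem (pow_mem (le_normalizer (mem_zpowers g)) _))⟩
    have hf : Function.Injective f := by
      intro i i' h
      by_contra hii
      have h' : g ^ (i : ℕ) * u * (g ^ (i : ℕ))⁻¹ = g ^ (i' : ℕ) * u * (g ^ (i' : ℕ))⁻¹ := congrArg Subtype.val h
      set w := (g ^ (i' : ℕ))⁻¹ * g ^ (i : ℕ)
      have hwz : w ∈ zpowers g := mul_mem (inv_mem (pow_mem (mem_zpowers g) _)) (pow_mem (mem_zpowers g) _)
      have hw1 : w ≠ 1 := fun hw => hii (Fin.ext (by
        have := inv_mul_eq_one.1 hw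
        rw [pow_inj_mod, hg, Nat.mod_eq_of_lt i.2, Nat.mod_eq_of_lt i'.2] at this
        exact this.symm))
      have hwc : Commute w u := by
        show w * u = u * w
        calc w * u = (g ^ (i' : ℕ))⁻¹ * (g ^ (i : ℕ) * u * (g ^ (i : ℕ))⁻¹) * g ^ (i : ℕ) := by
              simp only [w, mul_assoc, inv_mul_cancel, mul_one]
          _ = u * w := by rw [h']; simp only [w, mul_assoc, inv_mul_cancel_left]
      have hwo : orderOf w = 11 := ((Nat.dvd_prime (by norm_num)).1 (hg ▸ Nat.card_zpowers g ▸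
        Subgroup.orderOf_dvd_natCard _ hwz)).resolve_left fun h => hw1 (orderOf_eq_one_iff.1 h)
      obtain ⟨e, he⟩ : g ∈ zpowers w := zpowers_eq_of_mem hg hwo hwz ▸ mem_zpowers g
      have he' : w ^ e = g := he
      exact huC (mem_centralizer_singleton_iff.2 (he' ▸ (hwc.zpow_left e).symm.eq))
    have := Nat.card_le_card_of_injective f hf
    rw [Nat.card_fin] at this
    omega

end CfsgLib.SixThousand
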