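import Cfsg.Agent.SmallSimple.SixThousand.Sweep
import Cfsg.Agent.SmallSimple.SixThousand.Column
import Cfsg.Agent.SmallSimple.SixThousand.HandA
import Cfsg.Agent.SmallSimple.SixThousand.HandB
import Cfsg.Agent.S0975
import Cfsg.Agent.S0976
import Cfsg.Agent.S0977
import Cfsg.Agent.S0978
import Cfsg.Agent.S0979
import Cfsg.Agent.S0980

/-!
# The simple orders between 3641 and 6232
-/

set_option autoImplicit false
set_option linter.style.haveILetI false

namespace CfsgLib.SixThousand

open CfsgLib.SylowCheck CfsgLib.OrderBound

variable {G : Type*} [Group G] [Finite G] [IsSimpleGroup G]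

/-- The Sylow data left by the search at an order. -/
theorem exists_datum (hG : ¬ IsMulCommutative G) {n : ℕ} (hn : Nat.card G = n) {allowed : List Datum}
    (h : (decide ((entries (factorAux n n 2)).map Prod.fst).Nodup && (entries (factorAux n n 2)).all (entryB n) &&
      searchFix (divList n) n allowed (entries (factorAux n n 2)) []) = true) : ∃ x ∈ allowed, Real G x := by
  simp only [Bool.and_eq_true, decide_eq_true_eq] at h
  exact exists_allowed hG hn allowed _ [] h.1.2 (by simpa using h.1.1) (by simp) h.2

/-- The only possible orders. -/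
theorem card_mem (hG : ¬ IsMulCommutative G) (h1 : 3640 < Nat.card G) (h2 : Nat.card G ≤ 6232) :
    Nat.card G = 4080 ∨ Nat.card G = 5616 ∨ Nat.card G = 6048 ∨ Nat.card G = 6072 := by
  have hmem := mem_handled_of_autoB hG rfl (by omega) (by omega) (autoB_range h1 h2)
  simp only [handled, List.mem_cons, List.not_mem_nil, or_false] at hmem
  rcases hmem with h | h | h | h | h | h | h | h | h | h | h | h | h | h | h | h | h | h | h | h | h | h | h | h | h | h | h
  · exact (Cfsg.Agent.S0975.result h).elim
  · exact (false_of_thirty_nine_twenty h).elim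
  · obtain ⟨x, hx, hr⟩ := exists_datum hG h (allowed := [(11, 45, 4)]) (by decide +kernel)
    rw [List.mem_singleton] at hx
    exact (false_of_thirty_nine_sixty hG h (hx ▸ hr)).elim
  · exact (Cfsg.Agent.S0976.result h).elim
  · exact Or.inl h
  · obtain ⟨x, hx, hr⟩ := exists_datum hG h (allowed := [(7, 50, 2), (7, 50, 4)]) (by decide +kernel)
    simp only [List.mem_cons, List.not_mem_nil, or_false] at hx
    rcases hx with rfl | rfl
    · exact (false_of_forty_two_hundred hG h (c := 2) (by norm_num) (by norm_num) hr).elim
    · exact (false_of_forty_two_hundred hG h (c := 4) (by norm_num) (by norm_num) hr).elim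
  · exact (Cfsg.Agent.S0977.result h).elim
  · obtain ⟨x, hx, hr⟩ := exists_datum hG h (allowed := [(13, 40, 3)]) (by decide +kernel)
    rw [List.mem_singleton] at hx
    exact (false_of_forty_six_eighty hG h (hx ▸ hr)).elim
  · exact (false_of_forty_seven_twenty_five h).elim
  · obtain ⟨x, hx, hr⟩ := exists_datum hG h (allowed := [(17, 35, 1)]) (by decide +kernel)
    rw [List.mem_singleton] at hx
    exact (false_of_forty_seven_sixty hG h (hx ▸ hr)).elim
  · obtain ⟨x, hx, hr⟩ := exists_datum hG h (allowed := [(17, 18, 1)]) (by decide +kernel)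
    rw [List.mem_singleton] at hx
    exact (false_of_forty_eight_ninety_six hG h (hx ▸ hr)).elim
  · obtain ⟨x, hx, hr⟩ := exists_datum hG h (allowed := [(31, 32, 1)]) (by decide +kernel)
    rw [List.mem_singleton] at hx
    exact (false_of_forty_nine_sixty hG h (hx ▸ hr)).elim
  · exact (Cfsg.Agent.S0978.result h).elim
  · exact (false_of_fifty_ninety_six h).elim
  · obtain ⟨x, hx, hr⟩ := exists_datum hG h (allowed := [(29, 88, 1)]) (by decide +kernel)
    rw [List.mem_singleton] at hx
    exact (false_of_fifty_one_zero_four hG h (hx ▸ hr)).elim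
  · obtain ⟨x, hx, hr⟩ := exists_datum hG h (allowed := [(11, 78, 3)]) (by decide +kernel)
    rw [List.mem_singleton] at hx
    exact (false_of_fifty_one_forty_eight hG h (hx ▸ hr)).elim
  · exact (false_of_fifty_four_hundred h).elim
  · obtain ⟨x, hx, hr⟩ := exists_datum hG h (allowed := [(13, 105, 1)]) (by decide +kernel)
    rw [List.mem_singleton] at hx
    exact (false_of_fifty_four_sixty hG h (hx ▸ hr)).elim
  · exact (Cfsg.Agent.S0979.result h).elim
  · exact (false_of_fifty_six_hundred h).elim
  · exact Or.inr (Or.inl h)
  · exact (Cfsg.Agent.S0980.result h).elim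
  · exact (false_of_fifty_eight_eighty h).elim
  · obtain ⟨x, hx, hr⟩ := exists_datum hG h (allowed := [(11, 45, 6)]) (by decide +kernel)
    rw [List.mem_singleton] at hx
    exact (false_of_fifty_nine_forty hG h (hx ▸ hr)).elim
  · exact (false_of_six_thousand h).elim
  · exact Or.inr (Or.inr (Or.inl h))
  · exact Or.inr (Or.inr (Or.inr h))

end CfsgLib.SixThousand
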