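import Cfsg.Agent.SmallSimple.OrderBound.Sweep
import Cfsg.Agent.SmallSimple.FixedPoints

/-!
# Certificates computed from the factorisation, with a fixed point filter

The certificate of an order is computed from a trial factorisation, which is only a hint: every
condition used is checked again.  The Sylow data search gets one more filter: an element of prime
order centralising a Sylow subgroup of prime order fixes a number of Sylow subgroups obeying three
congruences.
-/

set_option autoImplicit false
set_option linter.style.haveILetI false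
set_option linter.unusedSectionVars false

namespace CfsgLib.SixThousand

open Subgroup MulAction CfsgLib.SylowCheck CfsgLib.OrderBound

/-- Primality by trial division up to the square root. -/
def sqrtPrimeB (p : ℕ) : Bool :=
  decide (2 ≤ p) && (List.range (Nat.sqrt p + 1)).all fun k => decide (k < 2) || p % k != 0

theorem prime_of_sqrtPrimeB {p : ℕ} (h : sqrtPrimeB p = true) : p.Prime := by
  simp only [sqrtPrimeB, Bool.and_eq_true, decide_eq_true_eq, List.all_eq_true, List.mem_range,
    Bool.or_eq_true, bne_iff_ne] at h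
  refine Nat.prime_def_le_sqrt.2 ⟨h.1, fun k hk2 hk hdvd => ?_⟩
  rcases h.2 k (Nat.lt_succ_of_le hk) with h' | h'
  · omega
  · exact h' (Nat.mod_eq_zero_of_dvd hdvd)

/-- Trial factorisation. -/
def factorAux : ℕ → ℕ → ℕ → List (ℕ × ℕ)
  | 0, _, _ => []
  | fuel + 1, m, d =>
    if m ≤ 1 then []
    else if m < d * d then [(m, 1)]
    else if m % d = 0 then
      match factorAux fuel (m / d) d with
      | [] => [(d, 1)]
      | (q, a) :: l => if q = d then (q, a + 1) :: l else (d, 1) :: (q, a) :: l
    else factorAux fuel m (d + 1)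

/-- The divisors, read off the ones below the square root. -/
def divList (n : ℕ) : List ℕ :=
  ((List.range (Nat.sqrt n + 1)).filter fun k => k != 0 && n % k == 0).flatMap fun k =>
    if k * k = n then [k] else [k, n / k]

theorem mem_divList {n k : ℕ} (hn : n ≠ 0) (h : k ∣ n) : k ∈ divList n := by
  obtain ⟨j, rfl⟩ := h
  have hk : k ≠ 0 := fun h => hn (by rw [h, zero_mul])
  have hj : j ≠ 0 := fun h => hn (by rw [h, mul_zero])
  simp only [divList, List.mem_flatMap, List.mem_filter, List.mem_range, Bool.and_eq_true, bne_iff_ne,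
    beq_iff_eq]
  rcases Nat.le_total k j with hkj | hjk
  · refine ⟨k, ⟨?_, hk, Nat.mul_mod_right k j⟩, ?_⟩
    · exact Nat.lt_succ_of_le (Nat.le_sqrt.2 (Nat.mul_le_mul_left k hkj))
    · split_ifs <;> simp
  · refine ⟨j, ⟨?_, hj, Nat.mul_mod_left k j⟩, ?_⟩
    · exact Nat.lt_succ_of_le (Nat.le_sqrt.2 (Nat.mul_le_mul_right j hjk))
    · split_ifs with he
      · have : j = k := Nat.eq_of_mul_eq_mul_right (Nat.pos_of_ne_zero hj) he
        simp [this]
      · rw [Nat.mul_div_cancel _ (Nat.pos_of_ne_zero hj)]
        simp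

/-- A possible number of fixed points of an element of order `q` centralising a subgroup of order
`p` in the action on its `k` conjugates. -/
def fixOK (p k q F : ℕ) : Bool :=
  F % q == k % q && (q != 2 || (k - F) % 4 == 0)

/-- No number of fixed points is possible for some prime dividing the centraliser. -/
def fixKill (D : List ℕ) (o : Datum) : Bool :=
  D.any fun q => o.2.2 % q == 0 && q != o.1 && sqrtPrimeB q &&
    (List.range ((o.2.1 - 1) / o.1)).all fun b => !fixOK o.1 o.2.1 q (1 + b * o.1)

/-- The search with restricted data and the fixed point filter; listed data are left open. -/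
def searchFix (D : List ℕ) (d : ℕ) (allowed : List Datum) :
    List (ℕ × Option (ℕ × ℕ × ℕ × ℕ)) → List Datum → Bool
  | [], acc => counted d acc || acc.any fun u => allowed.contains u
  | e :: es, acc => ((opts D d e.1).filter (keepB e)).all fun o =>
      fixKill D o || acc.any (fun u => !(compat D o u && compat D u o)) || searchFix D d allowed es (o :: acc)

variable {G : Type*} [Group G] [Finite G] [IsSimpleGroup G]

theorem false_of_fixKill (hG : ¬ IsMulCommutative G) {D : List ℕ} {o : Datum} (ho : Real G o)
    (h : fixKill D o = true) : False := by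
  obtain ⟨p, k, c⟩ := o
  obtain ⟨hp, hsq, hk, hQ⟩ := ho
  replace hk : Nat.card (Sylow p G) = k := hk
  replace hsq : ¬ p ^ 2 ∣ Nat.card G := hsq
  replace hp : p.Prime := hp
  replace hQ : ∀ Q : Sylow p G, Nat.card (Q : Subgroup G) = p ∧
      Nat.card (centralizer ((Q : Subgroup G) : Set G)) = p * c := hQ
  simp only [fixKill, List.any_eq_true, Bool.and_eq_true, beq_iff_eq, bne_iff_ne, List.all_eq_true,
    List.mem_range, Bool.not_eq_true'] at h
  obtain ⟨q, -, ⟨⟨hqc, hqp⟩, hq⟩, hall⟩ := h
  haveI : Fact p.Prime := ⟨hp⟩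
  haveI : Fact q.Prime := ⟨prime_of_sqrtPrimeB hq⟩
  obtain ⟨P⟩ : Nonempty (Sylow p G) := inferInstance
  obtain ⟨hP, hC⟩ := hQ P
  obtain ⟨x, hx⟩ := exists_prime_orderOf_dvd_card' (G := (P : Subgroup G)) p (by rw [hP])
  obtain ⟨y, hy⟩ := exists_prime_orderOf_dvd_card' (G := centralizer ((P : Subgroup G) : Set G)) q
    (hC ▸ Dvd.dvd.mul_left (Nat.dvd_of_mod_eq_zero hqc) _)
  have hxo : orderOf (x : G) = p := (Subgroup.orderOf_coe x).trans hx
  have hyo : orderOf (y : G) = q := (Subgroup.orderOf_coe y).trans hy
  have hPz : (P : Subgroup G) = zpowers (x : G) :=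
    (eq_of_le_of_card_ge (zpowers_le.2 x.2) (by rw [hP, Nat.card_zpowers, hxo])).symm
  have hidx : Nat.card (G ⧸ normalizer ((zpowers (x : G) : Subgroup G) : Set G)) = k := by
    rw [← hPz, ← index_eq_card, ← hk]
    exact (Sylow.card_eq_index_normalizer P).symm
  have hk1 : 1 < k := by
    have h1 : Nat.card (Sylow p G) ≠ 1 := CfsgLib.SmallSimple.card_sylow_ne_one P (by rw [hP]; exact hp.one_lt) (by
      rw [hP]
      rcases (Nat.le_of_dvd Nat.card_pos (hxo ▸ orderOf_dvd_natCard (x : G))).lt_or_eq with h | h
      · exact h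
      · exfalso
        haveI : IsCyclic G := isCyclic_of_prime_card (p := p) h.symm
        exact hG ⟨⟨fun a b => (IsCyclic.commGroup (α := G)).mul_comm a b⟩⟩)
    have : 0 < Nat.card (Sylow p G) := Nat.card_pos
    omega
  have hH : normalizer ((zpowers (x : G) : Subgroup G) : Set G) ≠ ⊤ := fun h => by
    rw [← index_eq_card, h, index_top] at hidx
    omega
  set F := Nat.card {a : G ⧸ normalizer ((zpowers (x : G) : Subgroup G) : Set G) // (y : G) • a = a}
  have hcomm : Commute (y : G) (x : G) := ((mem_centralizer_iff.1 y.2) x x.2).symm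
  have hF1 : F % p = 1 := CfsgLib.FixedPoints.card_fixed_mod hsq hxo le_rfl hcomm
  have hyq : (y : G) ^ q = 1 := by rw [← hyo, pow_orderOf_eq_one]
  have hF2 : F % q = k % q := hidx ▸ CfsgLib.FixedPoints.card_fixed_modEq hyq _
  have hFk : F < k := by
    refine lt_of_le_of_ne (hidx ▸ Finite.card_subtype_le _) fun he => ?_
    have := CfsgLib.FixedPoints.eq_one_of_fixed hH (hidx.symm ▸ he)
    rw [this, orderOf_one] at hyo
    exact (Fact.out : q.Prime).one_lt.ne hyo
  have hF4 : q = 2 → (k - F) % 4 = 0 := fun h2 => by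
    obtain ⟨m, hm⟩ := CfsgLib.FixedPoints.involution_parity hG (h2 ▸ hyq)
      (G ⧸ normalizer ((zpowers (x : G) : Subgroup G) : Set G))
    rw [hidx] at hm
    show (k - F) % 4 = 0
    omega
  have hk1' : k % p = 1 := hk ▸ Eq.trans (card_sylow_modEq_one p G) (Nat.mod_eq_of_lt hp.one_lt)
  have hb : F / p < (k - 1) / p := by
    have h1 := Nat.div_add_mod F p
    have h2 := Nat.div_add_mod k p
    have h3 : (k - 1) / p = k / p := by
      rw [show k - 1 = p * (k / p) by omega, Nat.mul_div_cancel_left _ hp.pos]
    rw [h3]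
    by_contra hle
    push Not at hle
    have := Nat.mul_le_mul_left p hle
    omega
  have := hall (F / p) hb
  have hFeq : 1 + F / p * p = F := by
    have h1 := Nat.div_add_mod F p
    rw [mul_comm] at h1
    omega
  rw [hFeq] at this
  simp only [fixOK, Bool.and_eq_false_iff, beq_eq_false_iff_ne, Bool.or_eq_false_iff, bne_eq_false_iff_eq] at this
  rcases this with h | ⟨h, h'⟩
  · exact h hF2
  · exact h' (hF4 h)

theorem exists_allowed (hG : ¬ IsMulCommutative G) {n : ℕ} (hn : Nat.card G = n) (allowed : List Datum)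
    (es : List (ℕ × Option (ℕ × ℕ × ℕ × ℕ))) (acc : List Datum) (hes : es.all (entryB n) = true)
    (hnd : (es.map Prod.fst ++ acc.map Prod.fst).Nodup) (hacc : ∀ x ∈ acc, Real G x)
    (h : searchFix (divList n) n allowed es acc = true) : ∃ x ∈ allowed, Real G x := by
  have hD : ∀ k, k ∣ Nat.card G → k ∈ divList n := fun k hk =>
    mem_divList (hn ▸ Nat.card_pos.ne') (hn ▸ hk)
  induction es generalizing acc with
  | nil =>
    rw [List.map_nil, List.nil_append, List.Nodup, List.pairwise_map] at hnd
    rcases Bool.or_eq_true_iff.1 h with h | h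
    · exact (false_of_counted hacc hnd (hn.symm ▸ h)).elim
    · simp only [List.any_eq_true, List.contains_iff_mem] at h
      obtain ⟨u, hu, hu'⟩ := h
      exact ⟨u, hu', hacc u hu⟩
  | cons e es ih =>
    simp only [List.all_cons, Bool.and_eq_true] at hes
    have he := hes.1
    have he' := he
    simp only [entryB, Bool.and_eq_true, beq_iff_eq, bne_iff_ne] at he'
    obtain ⟨⟨⟨hp, hd⟩, hd2⟩, -⟩ := he'
    obtain ⟨x, hx, hxr, hxe⟩ := exists_real hG (divList n) hD (prime_of_primeB hp)
      (hn ▸ Nat.dvd_of_mod_eq_zero hd)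
      (fun h => hd2 (by rw [sq] at h; exact Nat.mod_eq_zero_of_dvd (hn ▸ h)))
    simp only [searchFix, List.all_eq_true] at h
    have h' := h x (List.mem_filter.2 ⟨hn ▸ hx, centralizer_index_one hG hn he hxr hxe⟩)
    rcases Bool.or_eq_true_iff.1 h' with h' | h'
    · rcases Bool.or_eq_true_iff.1 h' with h' | h'
      · exact (false_of_fixKill hG hxr h').elim
      simp only [List.any_eq_true] at h'
      obtain ⟨u, hu, hu'⟩ := h'
      have hne : x.1 ≠ u.1 := fun h => by
        rw [List.map_cons, List.cons_append, List.nodup_cons, ← hxe] at hnd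
        exact hnd.1 (h ▸ List.mem_append_right _ (List.mem_map_of_mem hu))
      simp [compat_of_real _ hD hxr (hacc u hu) hne, compat_of_real _ hD (hacc u hu) hxr hne.symm] at hu'
    · refine ih (x :: acc) hes.2 ?_ ?_ h'
      · rw [List.map_cons, hxe]
        exact (List.perm_middle).nodup_iff.2 hnd
      · intro y hy
        rcases List.mem_cons.1 hy with rfl | hy
        exacts [hxr, hacc y hy]

/-- The entries of the search: primes dividing once, with the others recorded if there are two. -/
def entries (l : List (ℕ × ℕ)) : List (ℕ × Option (ℕ × ℕ × ℕ × ℕ)) :=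
  (l.reverse.filter fun x => x.2 == 1).map fun x =>
    (x.1, match l.filter (fun y => y.1 != x.1) with
      | [(u, a), (w, b)] => some (u, a, w, b)
      | _ => none)

/-- The orders needing special attention. -/
def handled : List ℕ :=
  [3744, 3920, 3960, 4032, 4080, 4200, 4320, 4680, 4725, 4760, 4896, 4960, 5040, 5096, 5104, 5148,
   5400, 5460, 5472, 5600, 5616, 5760, 5880, 5940, 6000, 6048, 6072]

/-- The criterion computed from the factorisation. -/
def autoB (n : ℕ) : Bool :=
  let l := factorAux n n 2
  handled.contains n ||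
  (match l with
    | [(p, a)] => sqrtPrimeB p && p ^ a == n
    | [(p, a), (q, b)] => sqrtPrimeB p && sqrtPrimeB q && p ^ a * q ^ b == n
    | _ => false) ||
  (match l with
    | (p, 1) :: _ => sqrtPrimeB p && n % p == 0 && n % (p * p) != 0 && n != p &&
        (List.range p).all fun k => decide (k < 2) || n % k != 0
    | _ => false) ||
  (match l with
    | [(2, 2), (u, a), (w, b)] => sqrtPrimeB u && sqrtPrimeB w && u != 2 && w != 2 && 4 * (u ^ a * w ^ b) == n
    | _ => false) ||
  (match l with
    | [(2, b), (3, 1), (s, a)] => sqrtPrimeB s && s != 2 && decide (a ≤ 2) && 3 * s ^ a * 2 ^ b == n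
    | _ => false) ||
  (decide ((entries l).map Prod.fst).Nodup && (entries l).all (entryB n) &&
    searchFix (divList n) n [] (entries l) [])

theorem mem_handled_of_autoB (hG : ¬ IsMulCommutative G) {n : ℕ} (hn : Nat.card G = n)
    (hne60 : n ≠ 60) (hne168 : n ≠ 168) (h : autoB n = true) : n ∈ handled := by
  simp only [autoB, Bool.or_eq_true] at h
  rcases h with ((((h | h) | h) | h) | h) | h
  · exact List.contains_iff_mem.1 h
  · exfalso
    split at h
    · next p a _ =>
      simp only [Bool.and_eq_true, beq_iff_eq] at h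
      exact CfsgLib.ThreePrimes.not_two_primes (a := a) (b := 0) hG (prime_of_sqrtPrimeB h.1) Nat.prime_two
        (by rw [hn, ← h.2, pow_zero, mul_one])
    · next p a q b _ =>
      simp only [Bool.and_eq_true, beq_iff_eq] at h
      exact CfsgLib.ThreePrimes.not_two_primes hG (prime_of_sqrtPrimeB h.1.1) (prime_of_sqrtPrimeB h.1.2)
        (hn.trans h.2.symm)
    · simp at h
  · exfalso
    split at h
    · next p _ _ =>
      simp only [Bool.and_eq_true, beq_iff_eq, bne_iff_ne, List.all_eq_true, List.mem_range,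
        Bool.or_eq_true, decide_eq_true_eq] at h
      obtain ⟨⟨⟨⟨hp, hd⟩, hd2⟩, hne⟩, hmin⟩ := h
      refine false_of_cyc hG hn (prime_of_sqrtPrimeB hp) (Nat.dvd_of_mod_eq_zero hd)
        (fun h => hd2 (Nat.mod_eq_zero_of_dvd h)) hne fun k hk hk2 hdvd => ?_
      rcases hmin k hk with h | h
      · omega
      · exact h (Nat.mod_eq_zero_of_dvd hdvd)
    · simp at h
  · exfalso
    split at h
    · next u a w b _ =>
      simp only [Bool.and_eq_true, beq_iff_eq, bne_iff_ne] at h
      obtain ⟨⟨⟨⟨hu, hw⟩, hu2⟩, hw2⟩, heq⟩ := h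
      exact hne60 (hn.symm.trans (CfsgLib.ThreePrimes.card_eq_sixty hG (prime_of_sqrtPrimeB hu) (prime_of_sqrtPrimeB hw)
        hu2 hw2 (hn.trans heq.symm)))
    · simp at h
  · exfalso
    split at h
    · next b s a _ =>
      simp only [Bool.and_eq_true, beq_iff_eq, bne_iff_ne, decide_eq_true_eq] at h
      obtain ⟨⟨⟨hs, hs2⟩, ha⟩, heq⟩ := h
      have hna : ∃ x y : G, x * y ≠ y * x := by
        by_contra h
        exact hG ⟨⟨fun x y => by_contra fun hne => h ⟨x, y, hne⟩⟩⟩
      rcases (Cfsg.Agent.S4501.result hna s 2 a b (prime_of_sqrtPrimeB hs) Nat.prime_two hs2 ha).2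
        (hn.trans heq.symm) with ⟨⟨e⟩⟩ | ⟨⟨e⟩⟩
      · refine hne60 ?_
        rw [← hn, Nat.card_congr e.toEquiv, nat_card_alternatingGroup, Nat.card_fin]
        rfl
      · refine hne168 ?_
        haveI : Fact (Nat.Prime 7) := ⟨by norm_num⟩
        have h7 := CfsgLib.Linear.Small.card_psl_two (F := ZMod 7) (q := 7) (ZMod.card 7)
        rw [← hn, Nat.card_congr e.toEquiv]
        rw [show Nat.gcd 2 (7 - 1) = 2 from rfl, show ((7 : ℕ) ^ 2 - 1) * (7 ^ 2 - 7) = 2016 from rfl,
          show (7 : ℕ) - 1 = 6 from rfl] at h7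
        omega
    · simp at h
  · exfalso
    simp only [Bool.and_eq_true, decide_eq_true_eq] at h
    obtain ⟨x, hx, -⟩ := exists_allowed hG hn [] _ [] h.1.2 (by simpa using h.1.1) (by simp) h.2
    simp at hx

/-- All orders in a range. -/
def allFrom (s : ℕ) : ℕ → Bool
  | 0 => true
  | k + 1 => autoB s && allFrom (s + 1) k

theorem autoB_of_allFrom : ∀ {k s n : ℕ}, allFrom s k = true → s ≤ n → n < s + k → autoB n = true
  | 0, s, n, _, h1, h2 => by omega
  | k + 1, s, n, h, h1, h2 => by
    simp only [allFrom, Bool.and_eq_true] at h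
    rcases Nat.lt_or_ge s n with hlt | hge
    · exact autoB_of_allFrom h.2 hlt (by omega)
    · exact (show s = n by omega) ▸ h.1

end CfsgLib.SixThousand
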