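import Cfsg.Agent.SmallSimple.SixThousand.Auto

/-!
# A certificate for every order from 3641 to 6232
-/

set_option autoImplicit false

namespace CfsgLib.SixThousand

theorem range0_valid : allFrom 3641 200 = true := by decide +kernel

theorem range1_valid : allFrom 3841 200 = true := by decide +kernel

theorem range2_valid : allFrom 4041 200 = true := by decide +kernel

theorem range3_valid : allFrom 4241 200 = true := by decide +kernel

theorem range4_valid : allFrom 4441 200 = true := by decide +kernel

theorem range5_valid : allFrom 4641 200 = true := by decide +kernel

theorem range6_valid : allFrom 4841 200 = true := by decide +kernel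

theorem range7_valid : allFrom 5041 200 = true := by decide +kernel

theorem range8_valid : allFrom 5241 200 = true := by decide +kernel

theorem range9_valid : allFrom 5441 200 = true := by decide +kernel

theorem range10_valid : allFrom 5641 200 = true := by decide +kernel

theorem range11_valid : allFrom 5841 200 = true := by decide +kernel

theorem range12_valid : allFrom 6041 192 = true := by decide +kernel

/-- Every order in the range has a certificate. -/
theorem autoB_range {n : ℕ} (h1 : 3640 < n) (h2 : n ≤ 6232) : autoB n = true := by
  by_cases h0 : n < 3841
  · exact autoB_of_allFrom range0_valid (by omega) h0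
  by_cases h1 : n < 4041
  · exact autoB_of_allFrom range1_valid (by omega) h1
  by_cases h2 : n < 4241
  · exact autoB_of_allFrom range2_valid (by omega) h2
  by_cases h3 : n < 4441
  · exact autoB_of_allFrom range3_valid (by omega) h3
  by_cases h4 : n < 4641
  · exact autoB_of_allFrom range4_valid (by omega) h4
  by_cases h5 : n < 4841
  · exact autoB_of_allFrom range5_valid (by omega) h5
  by_cases h6 : n < 5041
  · exact autoB_of_allFrom range6_valid (by omega) h6
  by_cases h7 : n < 5241
  · exact autoB_of_allFrom range7_valid (by omega) h7
  by_cases h8 : n < 5441
  · exact autoB_of_allFrom range8_valid (by omega) h8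
  by_cases h9 : n < 5641
  · exact autoB_of_allFrom range9_valid (by omega) h9
  by_cases h10 : n < 5841
  · exact autoB_of_allFrom range10_valid (by omega) h10
  by_cases h11 : n < 6041
  · exact autoB_of_allFrom range11_valid (by omega) h11
  exact autoB_of_allFrom range12_valid (by omega) (by omega)

end CfsgLib.SixThousand
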